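import Cfsg.Agent.Lib.Fusion.FittingCentralizer

/-!
# Central products of two saturated systems
-/

set_option autoImplicit false
set_option linter.style.haveILetI false

namespace Cfsg.Agent.Fusion.Comp

open Cfsg Cfsg.Agent.Fusion
open Cfsg.FusionSystem (normalizerIn centralizerIn imageAlong preimageAlong)

variable {Ω : Type*} [Group Ω] {T₁ T₂ U : Subgroup Ω} {E₁ : FusionSystem T₁} {E₂ : FusionSystem T₂}
  {D : FusionSystem U} {p : ℕ}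

/-- The data of a central product of two systems. -/
structure CPair (E₁ : FusionSystem T₁) (E₂ : FusionSystem T₂) (D : FusionSystem U)
    (D₀ : FusionSystem (T₁.prod T₂)) (θ : ↥(T₁.prod T₂) →* Ω) : Prop where
  prod : FusionSystem.IsProductSystem E₁ E₂ D₀
  surj : D₀.IsSurjectiveMorphism D θ
  push_eq : ∀ z ∈ T₁.prod T₂, Fusion91.push θ z = z.1 * z.2
  comm : ∀ a ∈ T₁, ∀ b ∈ T₂, a * b = b * a
  left : T₁ ≤ U
  right : T₂ ≤ U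
  cen : ∀ z ∈ T₁.prod T₂, z.1 * z.2 = 1 → z ∈ D₀.center

theorem exists_cpair [Fact p.Prime] [Finite T₁] [Finite T₂] (h₁ : IsPGroup p T₁) (h₂ : IsPGroup p T₂)
    (hs₁ : E₁.IsSaturated p) (hs₂ : E₂.IsSaturated p)
    (h : FusionSystem.IsCentralProductOf E₁ E₂ D) : ∃ D₀ θ, CPair E₁ E₂ D D₀ θ := by
  obtain ⟨D₀, hD₀, Z, θ, hZc, -, -, hθ₁, hθ₂, hfac⟩ := h
  haveI : Finite ↥(T₁.prod T₂) := Finite.of_equiv _ (T₁.prodEquiv T₂).toEquiv.symm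
  have hcl : D₀.StronglyClosed Z := by
    refine stronglyClosed_iff.2 ⟨hfac.1, fun R f hf x hx hxZ => ?_⟩
    obtain ⟨f', -, he, hfix⟩ := (isCentral_iff.1 (Fusion91.isCentral_center D₀)).2 R f hf
    rw [← he hx, hfix x (hZc hxZ)]
    exact hxZ
  have hα := S5134.result p (Fitting.isPGroup_prod h₁ h₂) D₀
    (Fusion91.isSaturated_prod h₁ h₂ hs₁ hs₂ hD₀) Z hcl θ D hfac
  have hl : ∀ {a : Ω}, a ∈ T₁ → ((a, 1) : Ω × Ω) ∈ T₁.prod T₂ := fun ha => ⟨ha, T₂.one_mem⟩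
  have hr : ∀ {b : Ω}, b ∈ T₂ → ((1, b) : Ω × Ω) ∈ T₁.prod T₂ := fun hb => ⟨T₁.one_mem, hb⟩
  have hpush : ∀ z (hz : z ∈ T₁.prod T₂), θ ⟨z, hz⟩ = z.1 * z.2 := fun z hz => by
    have e : (⟨z, hz⟩ : ↥(T₁.prod T₂)) = ⟨(z.1, 1), hl hz.1⟩ * ⟨(1, z.2), hr hz.2⟩ :=
      Subtype.ext (Prod.ext (mul_one _).symm (one_mul _).symm)
    rw [e, map_mul, hθ₁, hθ₂]
  refine ⟨D₀, θ, hD₀, hα, fun z hz => ?_, fun a ha b hb => ?_, fun a ha => ?_, fun b hb => ?_,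
    fun z hz he => hZc ((hfac.2.1 ⟨z, hz⟩).1 ((hpush z hz).trans he))⟩
  · rw [Fusion91.push_of_mem hz, hpush z hz]
  · have e : (⟨(a, 1), hl ha⟩ : ↥(T₁.prod T₂)) * ⟨(1, b), hr hb⟩ = ⟨(1, b), hr hb⟩ * ⟨(a, 1), hl ha⟩ :=
      Subtype.ext (Prod.ext (by simp) (by simp))
    have := congrArg θ e
    rwa [map_mul, map_mul, hθ₁, hθ₂] at this
  · exact hfac.2.2.1 ▸ ⟨⟨(a, 1), hl ha⟩, hθ₁ a _⟩
  · exact hfac.2.2.1 ▸ ⟨⟨(1, b), hr hb⟩, hθ₂ b _⟩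

variable {D₀ : FusionSystem (T₁.prod T₂)} {θ : ↥(T₁.prod T₂) →* Ω}

theorem CPair.mem_u (h : CPair E₁ E₂ D D₀ θ) {x : Ω} :
    x ∈ U ↔ ∃ a ∈ T₁, ∃ b ∈ T₂, x = a * b := by
  refine ⟨fun hx => ?_, fun ⟨a, ha, b, hb, he⟩ => he ▸ U.mul_mem (h.left ha) (h.right hb)⟩
  obtain ⟨z, hz, rfl⟩ := Fusion91.exists_push_eq h.surj.2.1 hx
  exact ⟨z.1, hz.1, z.2, hz.2, h.push_eq z hz⟩

/-- The first projection of the elements lying over `P`. -/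
def proj₁ (θ : ↥(T₁.prod T₂) →* Ω) (P : Subgroup Ω) : Subgroup Ω :=
  (preimageAlong θ P).map (MonoidHom.fst Ω Ω)

/-- The second projection of the elements lying over `P`. -/
def proj₂ (θ : ↥(T₁.prod T₂) →* Ω) (P : Subgroup Ω) : Subgroup Ω :=
  (preimageAlong θ P).map (MonoidHom.snd Ω Ω)

theorem proj₁_le (θ : ↥(T₁.prod T₂) →* Ω) (P : Subgroup Ω) : proj₁ θ P ≤ T₁ := by
  rintro _ ⟨z, hz, rfl⟩
  exact ((Fusion91.preimageAlong_le θ P) hz).1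

theorem proj₂_le (θ : ↥(T₁.prod T₂) →* Ω) (P : Subgroup Ω) : proj₂ θ P ≤ T₂ := by
  rintro _ ⟨z, hz, rfl⟩
  exact ((Fusion91.preimageAlong_le θ P) hz).2

theorem CPair.mem_pre (h : CPair E₁ E₂ D D₀ θ) {P : Subgroup Ω} {a b : Ω} (ha : a ∈ T₁) (hb : b ∈ T₂)
    (hP : a * b ∈ P) : (a, b) ∈ preimageAlong θ P := by
  refine Fusion91.mem_preimage_push.mpr ⟨⟨ha, hb⟩, ?_⟩
  rwa [h.push_eq _ ⟨ha, hb⟩]

theorem CPair.mem_proj (h : CPair E₁ E₂ D D₀ θ) {P : Subgroup Ω} {a b : Ω} (ha : a ∈ T₁) (hb : b ∈ T₂)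
    (hP : a * b ∈ P) : a ∈ proj₁ θ P ∧ b ∈ proj₂ θ P :=
  ⟨⟨(a, b), h.mem_pre ha hb hP, rfl⟩, ⟨(a, b), h.mem_pre ha hb hP, rfl⟩⟩

/-- The maps of a central product. -/
theorem CPair.lift (h : CPair E₁ E₂ D D₀ θ) {P : Subgroup Ω} {f : Ω → Ω} (hf : IsMap D P f) :
    ∃ f₁ f₂, IsMap E₁ (proj₁ θ P) f₁ ∧ IsMap E₂ (proj₂ θ P) f₂ ∧
      ∀ a ∈ T₁, ∀ b ∈ T₂, a * b ∈ P → f (a * b) = f₁ a * f₂ b := by
  obtain ⟨g, hg, hge⟩ := Fusion91.exists_lift_map h.surj hf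
  obtain ⟨hle, f₁, f₂, hf₁, hf₂, he⟩ := (Fusion91.isMap_prod_iff h.prod).1 hg
  refine ⟨f₁, f₂, hf₁, hf₂, fun a ha b hb hab => ?_⟩
  have hz := h.mem_pre ha hb hab
  have h1 := hge (a, b) hz
  have hm : (f₁ a, f₂ b) ∈ T₁.prod T₂ :=
    ⟨hf₁.apply_mem (Fusion91.mem_map_fst hz), hf₂.apply_mem (Fusion91.mem_map_snd hz)⟩
  rw [he _ hz, h.push_eq _ hm, h.push_eq _ ⟨ha, hb⟩] at h1
  exact h1.symm

/-- Maps of the factors combine to maps of the central product. -/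
theorem CPair.dmap (h : CPair E₁ E₂ D D₀ θ) {P P₁ P₂ : Subgroup Ω} {g₁ g₂ m : Ω → Ω} (hP : P ≤ U)
    (hg₁ : IsMap E₁ P₁ g₁) (hg₂ : IsMap E₂ P₂ g₂)
    (hP₁ : ∀ a ∈ T₁, ∀ b ∈ T₂, a * b ∈ P → a ∈ P₁ ∧ b ∈ P₂ ∧ m (a * b) = g₁ a * g₂ b) :
    IsMap D P m := by
  set R := preimageAlong θ P
  have hR : R ≤ T₁.prod T₂ := Fusion91.preimageAlong_le θ P
  have hmem : ∀ z ∈ R, z.1 ∈ P₁ ∧ z.2 ∈ P₂ ∧ m (z.1 * z.2) = g₁ z.1 * g₂ z.2 := fun z hz => by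
    obtain ⟨hz', hzP⟩ := Fusion91.mem_preimage_push.mp hz
    rw [h.push_eq z hz'] at hzP
    exact hP₁ z.1 hz'.1 z.2 hz'.2 hzP
  have hg₀ : IsMap D₀ R fun z => (g₁ z.1, g₂ z.2) := by
    refine (Fusion91.isMap_prod_iff h.prod).mpr ⟨hR, g₁, g₂, hg₁.mono ?_, hg₂.mono ?_, fun _ _ => rfl⟩
    · rintro _ ⟨z, hz, rfl⟩
      exact (hmem z hz).1
    · rintro _ ⟨z, hz, rfl⟩
      exact (hmem z hz).2.1
  obtain ⟨f', hf', hfe⟩ := Fusion91.exists_push_map h.surj hg₀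
  have hPle : P ≤ imageAlong θ R := fun x hx => by
    obtain ⟨z, hz, rfl⟩ := Fusion91.exists_push_eq h.surj.2.1 (hP hx)
    exact (Fusion91.mem_imageAlong_push hR).mpr ⟨z, Fusion91.mem_preimage_push.mpr ⟨hz, hx⟩, rfl⟩
  refine (hf'.mono hPle).congr fun x hx => ?_
  obtain ⟨z, hz, rfl⟩ := Fusion91.exists_push_eq h.surj.2.1 (hP hx)
  have hzR : z ∈ R := Fusion91.mem_preimage_push.mpr ⟨hz, hx⟩
  obtain ⟨h1, h2, h3⟩ := hmem z hzR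
  rw [hfe z hzR, h.push_eq _ ⟨hg₁.apply_mem h1, hg₂.apply_mem h2⟩, h.push_eq z hz, h3]

/-- The intersection of the factors is central in the first factor. -/
theorem CPair.fix₁ (h : CPair E₁ E₂ D D₀ θ) [Finite T₁] [Finite T₂] {P : Subgroup Ω} {g : Ω → Ω}
    (hg : IsMap E₁ P g) : ExtendsFix E₁ (T₁ ⊓ T₂) P g := by
  haveI : Finite ↥(T₁.prod T₂) := Finite.of_equiv _ (T₁.prodEquiv T₂).toEquiv.symm
  set P₀ : Subgroup (Ω × Ω) := P.prod ⊥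
  have hP₀ : P₀ ≤ T₁.prod T₂ := Subgroup.prod_mono hg.dom_le bot_le
  have hg₀ : IsMap D₀ P₀ fun z => (g z.1, z.2) := by
    refine (Fusion91.isMap_prod_iff h.prod).mpr ⟨hP₀, g, id, hg.mono ?_, isMap_id ?_, fun _ _ => rfl⟩
    · rintro _ ⟨z, hz, rfl⟩
      exact hz.1
    · rintro _ ⟨z, hz, rfl⟩
      exact (hP₀ hz).2
  obtain ⟨f', hf', he, hfix⟩ := (isCentral_iff.1 (Fusion91.isCentral_center D₀)).2 _ _ hg₀
  obtain ⟨hle, f₁, f₂, hf₁, -, hfe⟩ := (Fusion91.isMap_prod_iff h.prod).1 hf'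
  have hcen : ∀ w ∈ T₁ ⊓ T₂, ((w, w⁻¹) : Ω × Ω) ∈ D₀.center := fun w hw =>
    h.cen (w, w⁻¹) ⟨hw.1, T₂.inv_mem hw.2⟩ (mul_inv_cancel w)
  refine ⟨f₁, hf₁.mono (sup_le (fun x hx => ⟨(x, 1), Subgroup.mem_sup_left ⟨hx, Subgroup.one_mem _⟩, rfl⟩)
    fun w hw => ⟨(w, w⁻¹), Subgroup.mem_sup_right (hcen w hw), rfl⟩), fun x hx => ?_, fun w hw => ?_⟩
  · have hm : ((x, 1) : Ω × Ω) ∈ P₀ := ⟨hx, Subgroup.one_mem _⟩
    exact congrArg Prod.fst ((hfe _ (Subgroup.mem_sup_left hm)).symm.trans (he hm))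
  · exact congrArg Prod.fst ((hfe _ (Subgroup.mem_sup_right (hcen w hw))).symm.trans (hfix _ (hcen w hw)))

/-- The intersection of the factors is central in the second factor. -/
theorem CPair.fix₂ (h : CPair E₁ E₂ D D₀ θ) [Finite T₁] [Finite T₂] {P : Subgroup Ω} {g : Ω → Ω}
    (hg : IsMap E₂ P g) : ExtendsFix E₂ (T₁ ⊓ T₂) P g := by
  haveI : Finite ↥(T₁.prod T₂) := Finite.of_equiv _ (T₁.prodEquiv T₂).toEquiv.symm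
  set P₀ : Subgroup (Ω × Ω) := (⊥ : Subgroup Ω).prod P
  have hP₀ : P₀ ≤ T₁.prod T₂ := Subgroup.prod_mono bot_le hg.dom_le
  have hg₀ : IsMap D₀ P₀ fun z => (z.1, g z.2) := by
    refine (Fusion91.isMap_prod_iff h.prod).mpr ⟨hP₀, id, g, isMap_id ?_, hg.mono ?_, fun _ _ => rfl⟩
    · rintro _ ⟨z, hz, rfl⟩
      exact (hP₀ hz).1
    · rintro _ ⟨z, hz, rfl⟩
      exact hz.2
  obtain ⟨f', hf', he, hfix⟩ := (isCentral_iff.1 (Fusion91.isCentral_center D₀)).2 _ _ hg₀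
  obtain ⟨hle, f₁, f₂, -, hf₂, hfe⟩ := (Fusion91.isMap_prod_iff h.prod).1 hf'
  have hcen : ∀ w ∈ T₁ ⊓ T₂, ((w⁻¹, w) : Ω × Ω) ∈ D₀.center := fun w hw =>
    h.cen (w⁻¹, w) ⟨T₁.inv_mem hw.1, hw.2⟩ (inv_mul_cancel w)
  refine ⟨f₂, hf₂.mono (sup_le (fun x hx => ⟨(1, x), Subgroup.mem_sup_left ⟨Subgroup.one_mem _, hx⟩, rfl⟩)
    fun w hw => ⟨(w⁻¹, w), Subgroup.mem_sup_right (hcen w hw), rfl⟩), fun x hx => ?_, fun w hw => ?_⟩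
  · have hm : ((1, x) : Ω × Ω) ∈ P₀ := ⟨Subgroup.one_mem _, hx⟩
    exact congrArg Prod.snd ((hfe _ (Subgroup.mem_sup_left hm)).symm.trans (he hm))
  · exact congrArg Prod.snd ((hfe _ (Subgroup.mem_sup_right (hcen w hw))).symm.trans (hfix _ (hcen w hw)))

/-- The product map of two maps agreeing with the identity on the intersection is well defined. -/
theorem CPair.exists_combine (h : CPair E₁ E₂ D D₀ θ) {P₁ P₂ : Subgroup Ω} {g₁ g₂ : Ω → Ω}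
    (hg₁ : IsMap E₁ P₁ g₁) (hg₂ : IsMap E₂ P₂ g₂) (hZ₁ : T₁ ⊓ T₂ ≤ P₁) (hZ₂ : T₁ ⊓ T₂ ≤ P₂)
    (hf₁ : ∀ w ∈ T₁ ⊓ T₂, g₁ w = w) (hf₂ : ∀ w ∈ T₁ ⊓ T₂, g₂ w = w) :
    ∃ m, IsMap D (P₁ ⊔ P₂) m ∧ Set.EqOn m g₁ P₁ ∧ Set.EqOn m g₂ P₂ ∧
      ∀ a ∈ P₁, ∀ b ∈ P₂, m (a * b) = g₁ a * g₂ b := by
  classical
  have key : ∀ a ∈ P₁, ∀ b ∈ P₂, ∀ a' ∈ P₁, ∀ b' ∈ P₂, a * b = a' * b' →
      g₁ a * g₂ b = g₁ a' * g₂ b' := by
    intro a ha b hb a' ha' b' hb' he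
    have h1 : a'⁻¹ * a = b' * b⁻¹ := by
      calc a'⁻¹ * a = a'⁻¹ * (a * b) * b⁻¹ := by group
        _ = _ := by rw [he]; group
    have hw : a'⁻¹ * a ∈ T₁ ⊓ T₂ := ⟨hg₁.dom_le (P₁.mul_mem (P₁.inv_mem ha') ha),
      h1.symm ▸ hg₂.dom_le (P₂.mul_mem hb' (P₂.inv_mem hb))⟩
    have e1 : g₁ a = g₁ a' * (a'⁻¹ * a) := by
      conv_lhs => rw [← mul_inv_cancel_left a' a]
      rw [hg₁.map_mul ha' (hZ₁ hw), hf₁ _ hw]
    have e2 : g₂ b' = (a'⁻¹ * a) * g₂ b := by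
      have e3 : b' = (a'⁻¹ * a) * b := by rw [h1, inv_mul_cancel_right]
      conv_lhs => rw [e3]
      rw [hg₂.map_mul (hZ₂ hw) hb, hf₂ _ hw]
    rw [e1, e2, mul_assoc]
  have hdec : ∀ x ∈ P₁ ⊔ P₂, ∃ a ∈ P₁, ∃ b ∈ P₂, x = a * b := by
    intro x hx
    rw [Subgroup.sup_eq_closure] at hx
    induction hx using Subgroup.closure_induction with
    | mem x hx =>
      rcases hx with hx | hx
      · exact ⟨x, hx, 1, P₂.one_mem, (mul_one x).symm⟩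
      · exact ⟨1, P₁.one_mem, x, hx, (one_mul x).symm⟩
    | one => exact ⟨1, P₁.one_mem, 1, P₂.one_mem, (mul_one 1).symm⟩
    | mul a b _ _ ha hb =>
      obtain ⟨r, hr, c, hc, rfl⟩ := ha
      obtain ⟨r', hr', c', hc', rfl⟩ := hb
      refine ⟨r * r', P₁.mul_mem hr hr', c * c', P₂.mul_mem hc hc', ?_⟩
      calc r * c * (r' * c') = r * (c * r') * c' := by group
        _ = r * (r' * c) * c' := by rw [← h.comm r' (hg₁.dom_le hr') c (hg₂.dom_le hc)]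
        _ = _ := by group
    | inv a _ ha =>
      obtain ⟨r, hr, c, hc, rfl⟩ := ha
      refine ⟨r⁻¹, P₁.inv_mem hr, c⁻¹, P₂.inv_mem hc, ?_⟩
      rw [mul_inv_rev, h.comm _ (hg₁.dom_le (P₁.inv_mem hr)) _ (hg₂.dom_le (P₂.inv_mem hc))]
  let m : Ω → Ω := fun x => if hx : x ∈ P₁ ⊔ P₂ then
    g₁ (hdec x hx).choose * g₂ (hdec x hx).choose_spec.2.choose else x
  have hm : ∀ a ∈ P₁, ∀ b ∈ P₂, m (a * b) = g₁ a * g₂ b := by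
    intro a ha b hb
    have hx : a * b ∈ P₁ ⊔ P₂ := Subgroup.mul_mem _ (Subgroup.mem_sup_left ha) (Subgroup.mem_sup_right hb)
    show (if hx : a * b ∈ P₁ ⊔ P₂ then _ else a * b) = _
    rw [dif_pos hx]
    exact key _ (hdec _ hx).choose_spec.1 _ (hdec _ hx).choose_spec.2.choose_spec.1 a ha b hb
      (hdec _ hx).choose_spec.2.choose_spec.2.symm
  refine ⟨m, h.dmap (P₁ := P₁) (P₂ := P₂) (sup_le (hg₁.dom_le.trans h.left) (hg₂.dom_le.trans h.right))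
    hg₁ hg₂ fun a ha b hb hab => ?_, fun a ha => ?_, fun b hb => ?_, hm⟩
  · obtain ⟨a', ha', b', hb', he⟩ := hdec _ hab
    have h1 : a'⁻¹ * a = b' * b⁻¹ := by
      calc a'⁻¹ * a = a'⁻¹ * (a * b) * b⁻¹ := by group
        _ = _ := by rw [he]; group
    have hw : a'⁻¹ * a ∈ T₁ ⊓ T₂ := ⟨T₁.mul_mem (T₁.inv_mem (hg₁.dom_le ha')) ha,
      h1.symm ▸ T₂.mul_mem (hg₂.dom_le hb') (T₂.inv_mem hb)⟩
    have haP : a ∈ P₁ := by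
      have := P₁.mul_mem ha' (hZ₁ hw)
      rwa [mul_inv_cancel_left] at this
    have hbP : b ∈ P₂ := by
      have := P₂.mul_mem (P₂.inv_mem (hZ₂ hw)) hb'
      rwa [h1, mul_inv_rev, inv_inv, inv_mul_cancel_right] at this
    exact ⟨haP, hbP, hm a haP b hbP⟩
  · have := hm a ha 1 P₂.one_mem
    rwa [mul_one, hg₂.map_one, mul_one] at this
  · have := hm 1 P₁.one_mem b hb
    rwa [one_mul, hg₁.map_one, one_mul] at this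

end Cfsg.Agent.Fusion.Comp
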