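import Cfsg.Agent.Lib.Fusion.Comp.FixClosed

/-!
# A normal subsystem of a normal subsystem preserved by the automorphisms is normal
-/

set_option autoImplicit false
set_option linter.style.haveILetI false

namespace Cfsg.Agent.Fusion.Comp

open Cfsg Cfsg.Agent.Fusion Cfsg.Agent.Fusion.NormalLift
open Cfsg.FusionSystem (normalizerIn centralizerIn)

variable {Ω : Type*} [Group Ω] {S U W : Subgroup Ω} {F : FusionSystem S} {E : FusionSystem U}
  {D : FusionSystem W} {p : ℕ}

/-- The map `k` preserves the group and the maps of `D`. -/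
def Preserves (D : FusionSystem W) (k : Ω → Ω) : Prop :=
  (∀ x ∈ W, k x ∈ W) ∧
    ∀ P f, IsMap D P f → ∀ P' : Subgroup Ω, (P' : Set Ω) = k '' (P : Set Ω) →
      ∃ g, IsMap D P' g ∧ ∀ x ∈ P, g (k x) = k (f x)

theorem preserves_of_invariant {T : Subgroup Ω} {G : FusionSystem T} (hD : D.IsInvariantIn G) {k : Ω → Ω}
    (hk : IsIso G W W k) : Preserves D k := by
  refine ⟨fun x hx => hk.mem hx, fun P f hf P' hP' => ?_⟩
  exact invariant_inv hD hf hk hP'

theorem Preserves.comp {k k' : Ω → Ω} (h : Preserves D k) (h' : Preserves D k') {M : Subgroup Ω}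
    {T : Subgroup Ω} {G : FusionSystem T} (hk : IsMap G M k) (hWM : W ≤ M) : Preserves D (k' ∘ k) := by
  refine ⟨fun x hx => h'.1 _ (h.1 x hx), fun P f hf P' hP' => ?_⟩
  obtain ⟨P₁, hP₁⟩ := ((hk.mono hWM).mono hf.dom_le).exists_image
  obtain ⟨g, hg, hge⟩ := h.2 P f hf P₁ hP₁.2.symm
  obtain ⟨g', hg', hg'e⟩ := h'.2 P₁ g hg P' (by rw [hP', Set.image_comp, hP₁.2])
  exact ⟨g', hg', fun x hx => by
    rw [Function.comp_apply, Function.comp_apply, hg'e _ (hP₁.mem hx), hge x hx]⟩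

theorem Preserves.congr {k k' : Ω → Ω} (h : Preserves D k) (he : Set.EqOn k' k W) : Preserves D k' := by
  refine ⟨fun x hx => he hx ▸ h.1 x hx, fun P f hf P' hP' => ?_⟩
  obtain ⟨g, hg, hge⟩ := h.2 P f hf P' (hP'.trans (Set.image_congr fun x hx => he (hf.dom_le hx)))
  exact ⟨g, hg, fun x hx => by rw [he (hf.dom_le hx), hge x hx, he (hf.apply_mem hx)]⟩

variable [Finite S] [Fact p.Prime]

set_option maxHeartbeats 1000000 in
/-- Lifts of coprime automorphisms. -/
theorem char_lift (n : NData F E p) (d : NData E D p) (hW : F.StronglyClosed W) {α : MulAut W}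
    (hα : α ∈ D.autGroup W) (ho : (orderOf α).Coprime p) : Lift F α := by
  haveI := n.finiteT
  have hWU : W ≤ U := d.tS
  haveI := finite_of_le hWU
  haveI := finite_mulAut W
  set R := W ⊔ centralizerIn U W with hR
  have hRU : R ≤ U := sup_le hWU inf_le_left
  have hRS : R ≤ S := hRU.trans n.tS
  have hSW : ∀ s ∈ S, ∀ w ∈ W, s * w * s⁻¹ ∈ W := fun s hs w hw => Fusion92.conj_mem_closed hW hs hw
  have hSC : ∀ s ∈ S, ∀ c ∈ centralizerIn U W, s * c * s⁻¹ ∈ centralizerIn U W := fun s hs c hc =>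
    ⟨n.conj_t hs hc.1, Subgroup.mem_centralizer_iff.mpr fun x hx => by
      have h1 := Subgroup.mem_centralizer_iff.mp hc.2 _ (hSW s⁻¹ (S.inv_mem hs) x hx)
      rw [inv_inv] at h1
      calc x * (s * c * s⁻¹) = s * (s⁻¹ * x * s * c) * s⁻¹ := by group
        _ = s * (c * (s⁻¹ * x * s)) * s⁻¹ := by rw [h1]
        _ = _ := by group⟩
  haveI := finite_of_le hRS
  haveI : Finite (centralizerIn U W : Subgroup Ω) := finite_of_le (inf_le_left : centralizerIn U W ≤ U)
  have hSR : S ≤ Subgroup.normalizer (R : Set Ω) := fun s hs => mem_normalizer_sup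
    (Subgroup.mem_normalizer_fintype (hSW s hs)) (Subgroup.mem_normalizer_fintype (hSC s hs))
  have hRn : F.IsFullyNormalized R := Inter.fullyNormalized_of_normalized hRS hSR
  have hc : centralizerIn U R ≤ R := fun x hx => Subgroup.mem_sup_right
    ⟨hx.1, Subgroup.centralizer_le (fun y hy => Subgroup.mem_sup_left hy) hx.2⟩
  -- the lift in `E`
  obtain ⟨g, hg, hge, hgc⟩ := Fus93.normal_ext d.normal ((mem_autGroup le_rfl).mp hα)
  haveI := finite_mulAut R
  obtain ⟨b, hb, hbe⟩ := hg.exists_aut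
  obtain ⟨m, hm, hme⟩ := exists_pow_coprime (p := p) (⟨b, hb⟩ : E.autGroup R) α ho
  set β : MulAut R := b ^ m with hβd
  have hβ : β ∈ E.autGroup R := Subgroup.pow_mem _ hb m
  have hβo : (orderOf β).Coprime p := by
    rw [show β = (((⟨b, hb⟩ : E.autGroup R) ^ m : E.autGroup R) : MulAut R) from rfl, Subgroup.orderOf_coe]
    exact hm
  have hβW : ∀ x ∈ W, autFun β x = autFun α x := fun x hx => by
    rw [hβd, pow_restrict le_sup_left
      (fun y hy => (hbe (Subgroup.mem_sup_left hy)).trans (hge y hy)) m x hx, hme]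
  have hβmod : ∀ x ∈ R, x⁻¹ * autFun β x ∈ W := Inter.mod_pow (fun x hx => by
    rw [hbe hx]
    exact Inter.mod_sup (inf_le_right.trans (Subgroup.centralizer_le_normalizer _)) hg.1
      (fun y hy => hge y hy ▸ Inter.autFun_mem_self α hy) (fun c hc => (hgc c hc).1) x hx) m
  -- the lift in `F`
  set D₀ := R ⊔ centralizerIn S R with hD₀
  have hD₀S : D₀ ≤ S := sup_le hRS (Fusion.centralizerIn_le _ _)
  haveI := finite_of_le hD₀S
  haveI := finite_mulAut D₀
  obtain ⟨γ₀, hγ₀, hγ₀e, hγ₀c⟩ := n.exists_lift hRn hRU hc β hβ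
  obtain ⟨m', hm', hme'⟩ := exists_pow_coprime (p := p) (⟨γ₀, hγ₀⟩ : F.autGroup D₀) β hβo
  set γ : MulAut D₀ := γ₀ ^ m' with hγdef
  have hγ : γ ∈ F.autGroup D₀ := Subgroup.pow_mem _ hγ₀ m'
  have hγi := (mem_autGroup hD₀S).mp hγ
  have hγo : (orderOf γ).Coprime p := by
    rw [show γ = (((⟨γ₀, hγ₀⟩ : F.autGroup D₀) ^ m' : F.autGroup D₀) : MulAut D₀) from rfl,
      Subgroup.orderOf_coe]
    exact hm'
  have hγR : ∀ x ∈ R, autFun γ x = autFun β x := fun x hx => by
    rw [hγdef, pow_restrict le_sup_left hγ₀e m' x hx, hme']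
  have hγmod : ∀ x ∈ D₀, x⁻¹ * autFun γ x ∈ R := Inter.mod_pow (Inter.mod_sup
    (inf_le_right.trans (Subgroup.centralizer_le_normalizer _)) ((mem_autGroup hD₀S).mp hγ₀).1
    (fun x hx => hγ₀e hx ▸ Inter.autFun_mem_self β hx) hγ₀c) m'
  have hγW : ∀ x ∈ W, autFun γ x ∈ W := fun x hx => by
    rw [hγR x (Subgroup.mem_sup_left hx), hβW x hx]
    exact Inter.autFun_mem_self α hx
  have hγmodR : ∀ x ∈ R, x⁻¹ * autFun γ x ∈ W := fun x hx => by rw [hγR x hx]; exact hβmod x hx
  have hDR : ∀ x ∈ D₀, x ∈ U → x ∈ R := by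
    intro x hxD hxU
    obtain ⟨r, hr, c, hc', rfl⟩ := exists_mul_of_mem_supC hxD
    exact R.mul_mem hr (hc ⟨by simpa using U.mul_mem (U.inv_mem (hRU hr)) hxU, hc'.2⟩)
  have hSD : ∀ s ∈ S, s ∈ Subgroup.normalizer (D₀ : Set Ω) := fun s hs =>
    Inter.normalizer_supC ⟨hs, hSR hs⟩
  have hDn : F.IsFullyNormalized D₀ := Inter.fullyNormalized_of_normalized hD₀S hSD
  have hext : IsExtendable S D₀ (autFun γ) (centralizerIn S W) := by
    refine ⟨inf_le_left, fun c hcc => ⟨hSD c hcc.1, ?_⟩⟩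
    have hcD : c ∈ normalizerIn S D₀ := ⟨hcc.1, hSD c hcc.1⟩
    set cu : MulAut D₀ := conjAutHom S D₀ ⟨c, hcD⟩ with hcu
    have hcuF : cu ∈ F.autGroup D₀ := autInducedBy_le_autGroup hD₀S (by
      rw [← range_conjAutHom]; exact ⟨_, rfl⟩)
    set δ : MulAut D₀ := γ * cu * γ⁻¹ * cu⁻¹ with hδ
    have hδF : δ ∈ F.autGroup D₀ := Subgroup.mul_mem _ (Subgroup.mul_mem _ (Subgroup.mul_mem _ hγ hcuF)
      (Subgroup.inv_mem _ hγ)) (Subgroup.inv_mem _ hcuF)
    have hsurj : ∀ z : D₀, ∃ x : D₀, z = cu (γ x) := fun z => ⟨γ⁻¹ (cu⁻¹ z), by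
      rw [show γ (γ⁻¹ (cu⁻¹ z)) = cu⁻¹ z from γ.apply_symm_apply _]
      exact (cu.apply_symm_apply z).symm⟩
    have hback : ∀ X : Subgroup Ω, X ≤ D₀ → (∀ s ∈ S, ∀ y ∈ X, s * y * s⁻¹ ∈ X) →
        (∀ y ∈ X, autFun γ y ∈ X) → ∀ x : D₀, ((cu (γ x) : D₀) : Ω) ∈ X → (x : Ω) ∈ X := by
      intro X hX hSX hγX x hx
      have h1 : autFun γ x ∈ X := by
        have := hSX c⁻¹ (S.inv_mem hcc.1) _ hx
        rw [autFun_coe]
        convert this using 1
        show ((γ x : D₀) : Ω) = c⁻¹ * (c * (γ x : D₀) * c⁻¹) * c⁻¹⁻¹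
        group
      haveI := finite_of_le hX
      obtain ⟨y, hy, hye⟩ := (isIso_of_mapsTo (hγi.1.mono hX) (hX.trans hD₀S) hγX le_rfl).exists_preimage h1
      rwa [← hγi.1.injOn (hX hy) x.2 hye]
    have hval : ∀ x : D₀, (((cu (γ x))⁻¹ * δ (cu (γ x)) : D₀) : Ω) =
        (c * autFun γ x * c⁻¹)⁻¹ * autFun γ (c * x * c⁻¹) := fun x => by
      have e1 : δ (cu (γ x)) = γ (cu x) := by
        rw [hδ, MulAut.mul_apply, MulAut.mul_apply, MulAut.mul_apply,
          show cu⁻¹ (cu (γ x)) = γ x from cu.symm_apply_apply _,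
          show γ⁻¹ (γ x) = x from γ.symm_apply_apply _]
      rw [Subgroup.coe_mul, Subgroup.coe_inv, e1, ← autFun_coe γ (cu x), autFun_coe γ x]
      rfl
    have hfixc : ∀ y ∈ W, c * y * c⁻¹ = y := fun y hy => by
      rw [← Subgroup.mem_centralizer_iff.mp hcc.2 y hy, mul_inv_cancel_right]
    have hmem : δ ∈ stab D₀ R W le_sup_left ⊓ F.autGroup D₀ := by
      refine ⟨⟨fun z hz => ?_, fun z hz => ?_, fun z => ?_⟩, hδF⟩
      · obtain ⟨x, rfl⟩ := hsurj z
        have hy := hback W (le_sup_left.trans le_sup_left) hSW hγW x hz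
        have h1 := hval x
        rw [hfixc _ hy, hfixc _ (hγW _ hy), inv_mul_cancel, Subgroup.coe_mul, Subgroup.coe_inv,
          inv_mul_eq_one] at h1
        exact Subtype.ext h1.symm
      · obtain ⟨x, rfl⟩ := hsurj z
        have hy := hback R le_sup_left (fun s hs y hy => conj_mem_of_mem_normalizer (hSR hs) hy)
          (fun y hy => by rw [hγR y hy]; exact Inter.autFun_mem_self β hy) x hz
        rw [hval]
        have h1 := hγmodR _ hy
        have h2 := hγmodR _ (conj_mem_of_mem_normalizer (hSR hcc.1) hy)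
        have := W.mul_mem (W.inv_mem (hSW c hcc.1 _ h1)) h2
        convert this using 1
        group
      · obtain ⟨x, rfl⟩ := hsurj z
        rw [hval]
        have h1 := hγmod _ x.2
        have h2 := hγmod _ (conj_mem_of_mem_normalizer hcD.2 x.2)
        have := R.mul_mem (R.inv_mem (conj_mem_of_mem_normalizer (hSR hcc.1) h1)) h2
        convert this using 1
        group
    have hn : ((stab D₀ R W le_sup_left ⊓ F.autGroup D₀).subgroupOf (F.autGroup D₀)).Normal := by
      rw [Subgroup.inf_subgroupOf_right]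
      refine stab_normal le_sup_left _ (fun b hb x hx => hDR _ (b x).2 ?_) fun b hb x hx => ?_
      · rw [← autFun_coe b x]
        exact Fusion92.closed_apply n.closed ((mem_autGroup hD₀S).mp hb).1 x.2 (hRU hx)
      · rw [← autFun_coe b x]
        exact Fusion92.closed_apply hW ((mem_autGroup hD₀S).mp hb).1 x.2 hx
    obtain ⟨s, hs, hse⟩ := mem_autInducedBy.mp (Inter.pNormal_induced n.pgroup n.sat hDn
      (stab D₀ R W le_sup_left ⊓ F.autGroup D₀) inf_le_right
      ((stab_isPGroup le_sup_left (n.pgroup.to_le hD₀S)).to_le inf_le_left) hn hmem)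
    refine ⟨s * c, S.mul_mem hs hcc.1, fun x hx => ?_⟩
    have hz : c * autFun γ x * c⁻¹ ∈ D₀ := conj_mem_of_mem_normalizer hcD.2 (hγi.mem hx)
    have h1 := hse ⟨_, hz⟩
    have e1 : cu⁻¹ ⟨c * autFun γ x * c⁻¹, hz⟩ = ⟨autFun γ x, hγi.mem hx⟩ := cu.injective (by
      rw [show cu (cu⁻¹ _) = _ from cu.apply_symm_apply _]; exact Subtype.ext rfl)
    have e2 : γ⁻¹ ⟨autFun γ x, hγi.mem hx⟩ = ⟨x, hx⟩ := γ.injective (by
      rw [show γ (γ⁻¹ _) = _ from γ.apply_symm_apply _]; exact Subtype.ext (autFun_of_mem γ hx))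
    have e3 : δ ⟨c * autFun γ x * c⁻¹, hz⟩ = γ (cu ⟨x, hx⟩) := by
      rw [hδ, MulAut.mul_apply, MulAut.mul_apply, MulAut.mul_apply, e1, e2]
    rw [e3] at h1
    rw [show autFun γ (c * x * c⁻¹) = (γ (cu ⟨x, hx⟩) : Ω) from autFun_coe γ (cu ⟨x, hx⟩), h1]
    group
  obtain ⟨f, hf, hfe⟩ := receptive_extend
    (Inter.receptive_supC n.pgroup n.sat (n.centralized hRn)) hγi hext
  set M := D₀ ⊔ centralizerIn S W with hM
  have hMS : M ≤ S := sup_le hD₀S inf_le_left
  haveI := finite_of_le hMS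
  haveI := finite_mulAut M
  have hWD₀ : W ≤ D₀ := le_sup_left.trans le_sup_left
  have hfW : f '' (W : Set Ω) = (W : Set Ω) :=
    (Set.image_congr fun x hx => (hfe (hWD₀ hx)).trans
      ((hγR x (Subgroup.mem_sup_left hx)).trans (hβW x hx))).trans (autFun_image α)
  have hfM : IsIso F M M f := isIso_of_mapsTo hf hMS (isMap_mem_sup hf le_sup_left le_sup_right
    (fun x hx => Subgroup.mem_sup_left (hfe hx ▸ hγi.mem hx))
    fun x hx => Subgroup.mem_sup_right
      (map_mem_centralizer hf (hWD₀.trans le_sup_left) hfW (Subgroup.mem_sup_right hx) hx.2)) le_rfl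
  obtain ⟨φ', hφ', hφe⟩ := hfM.exists_aut
  obtain ⟨e, he, hee⟩ := exists_pow_coprime (p := p) φ' γ hγo
  set φ := autFun (φ' ^ e) with hφ
  have hφi : IsIso F M M φ := (mem_autGroup hMS).mp (Subgroup.pow_mem _ hφ' e)
  have hφD : ∀ x ∈ D₀, φ x = autFun γ x := fun x hx => by
    rw [hφ, pow_restrict le_sup_left (fun y hy => (hφe (Subgroup.mem_sup_left hy)).trans (hfe hy)) e x hx,
      hee]
  have hcop : Inter.Cop p M φ := Inter.cop_of_pow he le_rfl
  have hRU' : R ⊔ centralizerIn U R ≤ R := sup_le le_rfl hc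
  have hT := Inter.mod_single n hRn hRU (M := M) le_sup_left (fun x hx => ⟨hMS hx, hSR (hMS hx)⟩) hφi
    ((Set.image_congr fun x hx => (hφD x (Subgroup.mem_sup_left hx)).trans (hγR x hx)).trans
      (autFun_image β))
    (fun x hx => by rw [hφD x hx]; exact hγmod x hx)
    ((((mem_autGroup hRU).mp hβ).1.mono hRU').congr fun x hx => by
      rw [hφD x (Subgroup.mem_sup_left (hRU' hx)), hγR x (hRU' hx)]) hcop
  have hφW' : ∀ x ∈ W, φ x = autFun α x := fun x hx => by
    rw [hφD x (hWD₀ hx), hγR x (Subgroup.mem_sup_left hx), hβW x hx]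
  have hWM : W ≤ M := hWD₀.trans le_sup_left
  have hφW : φ '' (W : Set Ω) = (W : Set Ω) := (Set.image_congr hφW').trans (autFun_image α)
  have hle : W ⊔ centralizerIn S W ≤ M := sup_le hWM le_sup_right
  have hWCS : W ⊔ centralizerIn S W ≤ S := hle.trans hMS
  have hmain : ∀ u ∈ centralizerIn S W, u⁻¹ * φ u ∈ W := by
    intro u hu
    have huM : u ∈ M := Subgroup.mem_sup_right hu
    have hφu := map_mem_centralizer hφi.1 hWM hφW huM hu.2
    set d := u⁻¹ * φ u with hd
    have hdC : d ∈ centralizerIn U W :=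
      ⟨hT u huM, Subgroup.mul_mem _ (Subgroup.inv_mem _ hu.2) hφu.2⟩
    have hdR : d ∈ R := Subgroup.mem_sup_right hdC
    have hdM : d ∈ M := Subgroup.mem_sup_left (Subgroup.mem_sup_left hdR)
    set w₁ := d⁻¹ * φ d with hw₁
    have hw₁W : w₁ ∈ W := by
      rw [hw₁, hφD d (Subgroup.mem_sup_left hdR)]
      exact hγmodR d hdR
    have hpow : ∀ n : ℕ, ∃ w ∈ W, (d * w₁) ^ n = d ^ n * w := by
      intro n
      induction n with
      | zero => exact ⟨1, W.one_mem, by simp⟩
      | succ n ih =>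
        obtain ⟨w, hw, he'⟩ := ih
        refine ⟨(d⁻¹ * w * d) * w₁, W.mul_mem ?_ hw₁W, by rw [pow_succ, he', pow_succ]; group⟩
        simpa using hSW d⁻¹ (S.inv_mem (hRS hdR)) w hw
    have hit : ∀ n : ℕ, ∃ w ∈ W, φ^[n] u = u * d ^ n * w := by
      intro n
      induction n with
      | zero => exact ⟨1, W.one_mem, by simp⟩
      | succ n ih =>
        obtain ⟨w, hw, he'⟩ := ih
        obtain ⟨w', hw', hpe⟩ := hpow n
        have hφw : φ w ∈ W := by rw [hφW' w hw]; exact Inter.autFun_mem_self α hw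
        refine ⟨w' * φ w, W.mul_mem hw' hφw, ?_⟩
        rw [Function.iterate_succ_apply', he', hφi.1.map_mul (M.mul_mem huM (M.pow_mem hdM n)) (hWM hw),
          hφi.1.map_mul huM (M.pow_mem hdM n), hφi.1.map_pow hdM,
          show φ u = u * d by rw [hd, mul_inv_cancel_left],
          show φ d = d * w₁ by rw [hw₁, mul_inv_cancel_left], hpe, pow_succ']
        group
    obtain ⟨k, hk, hke⟩ := hcop
    obtain ⟨w, hw, hwe⟩ := hit k
    rw [hke u huM, mul_assoc, left_eq_mul] at hwe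
    obtain ⟨l, hl⟩ := n.pgroup ⟨d, hRS hdR⟩
    exact Fusion92.TClass.mem_of_pow_of_pow (eq_inv_of_mul_eq_one_left hwe ▸ W.inv_mem hw)
      (by rw [show d ^ p ^ l = 1 from congrArg Subtype.val hl]; exact W.one_mem) (hk.pow_right l)
  haveI := finite_of_le hWCS
  haveI := finite_mulAut ↥(W ⊔ centralizerIn S W)
  have hi : IsIso F (W ⊔ centralizerIn S W) (W ⊔ centralizerIn S W) φ :=
    isIso_of_mapsTo (hφi.1.mono hle) hWCS (isMap_mem_sup (hφi.1.mono hle) le_sup_left le_sup_right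
      (fun x hx => Subgroup.mem_sup_left (hφW' x hx ▸ Inter.autFun_mem_self α hx))
      fun x hx => Subgroup.mem_sup_right
        (map_mem_centralizer hφi.1 hWM hφW (Subgroup.mem_sup_right hx) hx.2)) le_rfl
  obtain ⟨r, hr, hre⟩ := hi.exists_aut
  exact ⟨r, hr, fun x hx => (hre (Subgroup.mem_sup_left hx)).trans (hφW' x hx),
    fun c hc => (hre (Subgroup.mem_sup_right hc)).symm ▸ hmain c hc⟩

set_option maxHeartbeats 1000000 in
/-- A normal subsystem of a normal subsystem preserved by the automorphisms is normal. -/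
theorem char_normal (n : NData F E p) (d : NData E D p)
    (hchar : ∀ k, IsIso F U U k → Preserves D k) : D.IsNormalIn F p := by
  haveI := n.finiteT
  have hWU : W ≤ U := d.tS
  haveI := finite_of_le hWU
  have hWS : W ≤ S := hWU.trans n.tS
  have hcl : F.StronglyClosed W := stronglyClosed_iff.mpr ⟨hWS, fun P f hf x hx hxW => by
    obtain ⟨k, e, hk, he, hke⟩ := invariant_frattini n.invariant (hf.mono (inf_le_left : P ⊓ U ≤ P)) inf_le_right
    rw [hke x ⟨hx, hWU hxW⟩]
    exact (hchar k hk).1 _ (Fusion92.closed_apply d.closed he ⟨hx, hWU hxW⟩ hxW)⟩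
  have hsub : D.IsSubsystemOf F := fun P => hom_subset_of_isMap fun f hf =>
    (hf.of_isSubsystemOf d.sub).of_isSubsystemOf n.sub
  refine Fus93.isNormalIn_of ⟨d.eSat, n.sat, Fus93.isInvariantIn_of hsub hcl ?_ ?_⟩ fun k hk => ?_
  · intro P f hf k hk P' hP'
    obtain ⟨K, e, hK, he, hke⟩ := invariant_frattini n.invariant hk.1 hWU
    have heW : IsIso E W W e := isIso_of_mapsTo he hWU
      (fun x hx => Fusion92.closed_apply d.closed he hx hx) le_rfl
    exact (((preserves_of_invariant d.invariant heW).comp (hchar K hK) he le_rfl).congr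
      fun x hx => hke x hx).2 P f hf P' hP'
  · intro P f hf hP
    obtain ⟨K, e, hK, he, hke⟩ := invariant_frattini n.invariant hf (hP.trans hWU)
    obtain ⟨k', g, hk', hg, hge⟩ := invariant_frattini d.invariant he hP
    refine ⟨K ∘ k', g, ⟨((hk'.1.of_isSubsystemOf n.sub).comp hK.1 fun x hx => hWU (hk'.mem hx)), ?_⟩, hg,
      fun x hx => by rw [hke x hx, Function.comp_apply, hge x hx]⟩
    rw [Set.image_comp, hk'.2]
    exact (isIso_of_mapsTo (hK.1.mono hWU) hWS (hchar K hK).1 le_rfl).2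
  · haveI := finite_mulAut W
    let X : Subgroup (D.autGroup W) :=
      { carrier := {a | Lift F (a : MulAut W)}
        one_mem' := lift_one
        mul_mem' := fun ha hb => lift_mul hWS ha hb
        inv_mem' := fun {a} ha => by
          obtain ⟨j, hj⟩ := mem_powers_iff_mem_zpowers.mpr
            (Subgroup.inv_mem _ (Subgroup.mem_zpowers a) : a⁻¹ ∈ Subgroup.zpowers a)
          show Lift F ((a⁻¹ : D.autGroup W) : MulAut W)
          rw [← hj]
          exact lift_pow hWS ha j }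
    obtain ⟨Y, hY⟩ := (fullyAutomized_of_fullyNormalized d.tp d.eSat fullyNormalized_self).2
    have hX : X = ⊤ := by
      refine eq_top_of_sylow_coprime Y X (fun a ha => ?_)
        fun a ha => char_lift n d hcl a.2 (by rwa [Subgroup.orderOf_coe])
      rw [hY, Subgroup.mem_subgroupOf, mem_autInducedBy] at ha
      obtain ⟨t, ht, hte⟩ := ha
      have hDS : W ⊔ centralizerIn S W ≤ S := sup_le hWS (Fusion.centralizerIn_le _ _)
      have htD : t ∈ W ⊔ centralizerIn S W := Subgroup.mem_sup_left ht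
      refine ⟨conjAutHom S _ ⟨t, hWS ht, Subgroup.le_normalizer htD⟩,
        autInducedBy_le_autGroup hDS (by rw [← range_conjAutHom]; exact ⟨_, rfl⟩), fun x hx => ?_,
        fun c hc => ?_⟩
      · rw [autFun_of_mem _ hx, hte ⟨x, hx⟩, autFun_of_mem _ (Subgroup.mem_sup_left hx : x ∈ W ⊔ centralizerIn S W)]
        rfl
      · rw [autFun_of_mem _ (Subgroup.mem_sup_right hc : c ∈ W ⊔ centralizerIn S W)]
        show c⁻¹ * (t * c * t⁻¹) ∈ W
        rw [Subgroup.mem_centralizer_iff.mp hc.2 t ht, mul_assoc c, mul_inv_cancel, mul_one, inv_mul_cancel]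
        exact W.one_mem
    obtain ⟨α, hα, hαe⟩ := hk.exists_aut
    obtain ⟨γ, hγ, hγe, hγc⟩ : Lift F α :=
      (show (⟨α, hα⟩ : D.autGroup W) ∈ X from hX.ge (Subgroup.mem_top _))
    have hDS : W ⊔ centralizerIn S W ≤ S := sup_le hWS (Fusion.centralizerIn_le _ _)
    have hγi := (mem_autGroup hDS).mp hγ
    exact ⟨autFun γ, hγi, fun x hx => (hγe hx).trans (hαe hx), fun c hc => ⟨hγc c hc,
      Subgroup.mul_mem _ (Subgroup.inv_mem _ hc.2) (map_mem_centralizer hγi.1 le_sup_left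
        ((Set.image_congr hγe).trans (autFun_image α)) (Subgroup.mem_sup_right hc) hc.2).2⟩⟩

end Cfsg.Agent.Fusion.Comp
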