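import Cfsg.Agent.Lib.Fusion.Comp.FixClosed
import Cfsg.Agent.Lib.Fusion.Inter.Layer
import Cfsg.Agent.Fusion92.Layer.Component

/-!
# A component centralizes the strongly closed subgroups it meets centrally
-/

set_option autoImplicit false
set_option linter.style.haveILetI false

namespace Cfsg.Agent.Fusion.Comp

open Cfsg Cfsg.Agent.Fusion Cfsg.Agent.Fusion.NormalLift
open Cfsg.FusionSystem (normalizerIn centralizerIn)

variable {Ω : Type*} [Group Ω] {p : ℕ}

set_option maxHeartbeats 1000000 in
/-- A component centralizes, with all its maps, every strongly closed subgroup meeting it centrally. -/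
theorem component_fix {T : Subgroup Ω} {C : FusionSystem T} {S : Subgroup Ω} {F : FusionSystem S}
    (hsub : C.IsSubnormalIn F p) : ∀ [Fact p.Prime], C.Quasisimple p →
    Finite S → IsPGroup p S → F.IsSaturated p → ∀ U, F.StronglyClosed U → T ⊓ U ≤ C.center →
      (∀ t ∈ T, t ∈ Subgroup.centralizer (U : Set Ω)) ∧ ∀ P f, IsMap C P f → ExtendsFix F U P f := by
  induction hsub with
  | refl F' p =>
    intro _ hq _ hS _ U hU hTU
    have hle : U ≤ F'.center := fun u hu => hTU ⟨hU.1 hu, hu⟩
    refine ⟨fun t ht => Subgroup.mem_centralizer_iff.2 fun y hy => (F'.center_le_centralizer (hle hy) t ht).symm,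
      fun P f hf => ?_⟩
    exact extendsFix_mono ((isCentral_iff.1 (Fusion91.isCentral_center F')).2 P f hf) le_rfl hle
  | @step S' S C' D F' p hCD hDF ih =>
    intro _ hq hfin hS hF U hU hTU
    have h : NData F' D p := ⟨hS, hF, hDF⟩
    haveI := hfin
    haveI := h.finiteT
    have hTS' := Fusion91.le_of_subnormal hCD
    haveI := finite_of_le hTS'
    have hWc : D.StronglyClosed (U ⊓ S') := stronglyClosed_iff.mpr ⟨inf_le_right, fun P f hf x hx hxW =>
      ⟨Fusion92.closed_apply hU (hf.of_isSubsystemOf h.sub) hx hxW.1, hf.apply_mem hx⟩⟩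
    obtain ⟨-, hfixW⟩ := ih hq inferInstance h.tp h.eSat _ hWc fun x hx => hTU ⟨hx.1, hx.2.1⟩
    have hTp := h.tp.to_le hTS'
    have hcop : ∀ {P : Subgroup Ω} (a : C'.autGroup P), P ≤ T → (orderOf a).Coprime p →
        ExtendsFix F' U P (autFun (a : MulAut P)) := fun {P} a hP ha =>
      fix_closed h hU (hP.trans hTS') (hfixW P _ ((mem_autGroup hP).mp a.2).1)
        (by rwa [Subgroup.orderOf_coe])
    have hTS : T ≤ S := hTS'.trans h.tS
    have hone : ∀ {P : Subgroup Ω}, P ≤ T → ExtendsFix F' U P (autFun (1 : MulAut P)) := fun hP =>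
      ⟨id, isMap_id (sup_le (hP.trans hTS) hU.1), fun x hx => (autFun_one hx).symm, fun _ _ => rfl⟩
    have hmul : ∀ {P : Subgroup Ω} (a b : MulAut P), ExtendsFix F' U P (autFun a) →
        ExtendsFix F' U P (autFun b) → ExtendsFix F' U P (autFun (a * b)) := fun a b ha hb =>
      (hb.comp ha fun x hx => PrimeIndex.autFun_mem _ hx).congr (autFun_mul a b).symm
    let A : ∀ {P : Subgroup Ω}, P ≤ T → Subgroup (C'.autGroup P) := fun {P} hP =>
      { carrier := {a | ExtendsFix F' U P (autFun (a : MulAut P))}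
        one_mem' := hone hP
        mul_mem' := fun {a b} ha hb => hmul _ _ ha hb
        inv_mem' := fun {a} ha => by
          haveI := finite_of_le hP
          haveI := finite_mulAut P
          obtain ⟨n, hn⟩ : ∃ n : ℕ, a⁻¹ = a ^ n := ⟨orderOf a - 1, by
            rw [inv_eq_iff_mul_eq_one, ← pow_succ', Nat.sub_add_cancel (orderOf_pos a), pow_orderOf_eq_one]⟩
          show ExtendsFix F' U P (autFun ((a⁻¹ : C'.autGroup P) : MulAut P))
          rw [hn]
          clear hn
          induction n with
          | zero => exact hone hP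
          | succ n ihn =>
            rw [pow_succ]
            exact hmul _ _ ihn ha }
    have hTc : ∀ t ∈ T, t ∈ Subgroup.centralizer (U : Set Ω) := by
      intro t ht
      rw [← hq.2.1] at ht
      induction ht using Subgroup.closure_induction with
      | mem z hz =>
        obtain ⟨P, α, x, hP, hα, rfl⟩ := hz
        haveI := finite_of_le hP
        haveI := finite_mulAut P
        have hαA : α ∈ A hP := Transfer.pResidual_le_iff.2 (fun b hb => hcop b hP hb) hα
        obtain ⟨g, hg, hge, hgQ⟩ := hαA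
        refine Subgroup.mem_centralizer_iff.2 fun q hq' => ?_
        have hxS : (x : Ω) ∈ S := hTS (hP x.2)
        have h1 : (x : Ω) * q * (x : Ω)⁻¹ ∈ U := Fusion92.conj_mem_closed hU hxS hq'
        have h2 := hg.map_conj (Subgroup.mem_sup_left x.2) (Subgroup.mem_sup_right hq')
        rw [hgQ _ h1, hgQ q hq', hge x.2, autFun_coe] at h2
        set y := (((α : MulAut P) x : P) : Ω) with hy
        calc q * ((x : Ω)⁻¹ * y) = (x : Ω)⁻¹ * ((x : Ω) * q * (x : Ω)⁻¹) * y := by group
          _ = (x : Ω)⁻¹ * (y * q * y⁻¹) * y := by rw [h2]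
          _ = (x : Ω)⁻¹ * y * q := by group
      | one => exact Subgroup.one_mem _
      | mul _ _ _ _ h1 h2 => exact Subgroup.mul_mem _ h1 h2
      | inv _ _ h1 => exact Subgroup.inv_mem _ h1
    refine ⟨hTc, alperin_induction_cr hTp hq.1 (fun P f => ExtendsFix F' U P f)
      (fun P f g hf he => hf.congr he)
      (fun P P' f g hf _ hCf hCg => hCf.comp hCg fun x hx => hf.mem hx)
      (fun P P' f _ hle hf => extendsFix_mono hf hle le_rfl) ?_⟩
    intro P hPc _ hPn f hf
    have hPV := hPc.1
    haveI := finite_of_le hPV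
    haveI := finite_mulAut P
    obtain ⟨Y, hY⟩ := (fullyAutomized_of_fullyNormalized hTp hq.1 hPn).2
    have hAtop : A hPV = ⊤ := by
      refine eq_top_of_sylow_coprime Y _ (fun a ha => ?_) fun a ha => hcop a hPV ha
      rw [hY, Subgroup.mem_subgroupOf, mem_autInducedBy] at ha
      obtain ⟨t, ht, hta⟩ := ha
      refine ⟨fun x => t * x * t⁻¹, isMap_conj (sup_le (hPV.trans hTS) hU.1) (hTS ht),
        fun x hx => by rw [autFun_of_mem _ hx, hta ⟨x, hx⟩], fun q hq' => ?_⟩
      show t * q * t⁻¹ = q
      rw [← Subgroup.mem_centralizer_iff.1 (hTc t ht) q hq', mul_inv_cancel_right]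
    obtain ⟨α, hα, he⟩ := hf.exists_aut
    exact ExtendsFix.congr (hAtop.ge (Subgroup.mem_top (⟨α, hα⟩ : C'.autGroup P)) : _) he

/-- A component of `F` lying in a normal subsystem is a component of it. -/
theorem subnormal_in_normal {T : Subgroup Ω} {C : FusionSystem T} {S : Subgroup Ω} {F : FusionSystem S}
    (hsub : C.IsSubnormalIn F p) : ∀ [Fact p.Prime], C.Quasisimple p →
    Finite S → IsPGroup p S → ∀ {U : Subgroup Ω} (E : FusionSystem U), E.IsNormalIn F p → T ≤ U →
      C.IsSubnormalIn E p := by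
  induction hsub with
  | refl F' p =>
    intro _ hq hfin hS U E hE hTU
    haveI := hfin
    have hsub := Inter.component_sub_of_le hS ⟨.refl F' p, hq⟩ hE hTU
    obtain rfl : U = T := le_antisymm hE.1.2.2.2.1.1 hTU
    obtain rfl : E = F' := fusion_ext fun P => Set.Subset.antisymm (hE.1.2.2.1 P) (hsub P)
    exact .refl E p
  | @step S' S C' D F' p hCD hD ih =>
    intro _ hq hfin hS U E hE hTU
    haveI := hfin
    have h : Inter.IData F' D E p := ⟨⟨hS, hD.1.2.1, hD⟩, ⟨hS, hE.1.2.1, hE⟩⟩
    have hTV : T ≤ S' := Fusion91.le_of_subnormal hCD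
    refine .step (ih hq (finite_of_le h.n₁.tS) h.n₁.tp _
      (Inter.gSys_normal_single h h.n₁ inf_le_left fun _ _ hl => hl.2.2.1) (le_inf hTV hTU))
      (Inter.gSys_normal_single h h.n₂ inf_le_right fun _ _ hl => hl.2.2.2)

variable [Fact p.Prime]

/-- The group of a component is not abelian. -/
theorem component_not_comm {S T : Subgroup Ω} [Finite S] {F : FusionSystem S} (hS : IsPGroup p S)
    {C : FusionSystem T} (hC : C.IsComponentIn F p) : ¬ ∀ a ∈ T, ∀ b ∈ T, a * b = b * a := by
  intro h
  have hTS : T ≤ S := Fusion91.le_of_subnormal hC.1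
  haveI := finite_of_le hTS
  exact (S5148.result p (hS.to_le hTS) C hC.2) ⟨⟨fun a b => Subtype.ext (h a a.2 b b.2)⟩⟩

theorem not_le_center {S T : Subgroup Ω} [Finite S] {F : FusionSystem S} (hS : IsPGroup p S)
    {C : FusionSystem T} (hC : C.IsComponentIn F p) : ¬ T ≤ C.center := fun h =>
  component_not_comm hS hC fun a ha _ hb => (C.center_le_centralizer (h hb) a ha)

/-- A component of `F` is a component of a normal subsystem or centralizes it. -/
theorem component_cases {S T U : Subgroup Ω} [Finite S] {F : FusionSystem S} (hS : IsPGroup p S)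
    (hF : F.IsSaturated p) {C : FusionSystem T} (hC : C.IsComponentIn F p) {E : FusionSystem U}
    (hE : E.IsNormalIn F p) :
    C.IsComponentIn E p ∨ ((∀ t ∈ T, t ∈ Subgroup.centralizer (U : Set Ω)) ∧
      ∀ P f, IsMap C P f → ExtendsFix F U P f) := by
  rcases Inter.component_dichotomy hC.1 inferInstance hS hC.2 hE with h | h
  · exact Or.inr (component_fix hC.1 hC.2 inferInstance hS hF U hE.1.2.2.2.1 h)
  · exact Or.inl ⟨subnormal_in_normal hC.1 hC.2 inferInstance hS E hE h.1, hC.2⟩

end Cfsg.Agent.Fusion.Comp
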