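import Cfsg.Agent.Lib.Fusion.Comp.Main
import Cfsg.Agent.S5140

/-!
# The normal product of two commuting normal subsystems
-/

set_option autoImplicit false
set_option linter.style.haveILetI false

namespace Cfsg.Agent.Fusion.Comp

open Cfsg Cfsg.Agent.Fusion Cfsg.Agent.Fusion.NormalLift
open Cfsg.FusionSystem (normalizerIn centralizerIn)

variable {Ω : Type*} [Group Ω] {S T U : Subgroup Ω} [Finite S] {F : FusionSystem S} {E : FusionSystem T}
  {p : ℕ} [Fact p.Prime]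

/-- A normal subsystem centralizes a strongly closed subgroup that it commutes with and meets
centrally. -/
theorem ext_of_central (n : NData F E p) (hU : F.StronglyClosed U)
    (hcomm : ∀ t ∈ T, ∀ u ∈ U, t * u = u * t) (hcen : ∀ P f, IsMap E P f → ExtendsFix E (U ⊓ T) P f)
    {P : Subgroup Ω} {f : Ω → Ω} (hf : IsMap E P f) : ExtendsFix F U P f := by
  haveI := n.finiteT
  refine alperin_induction_cr n.tp n.eSat (fun P f => ExtendsFix F U P f)
    (fun P f g hf he => hf.congr he)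
    (fun P P' f g hf _ hCf hCg => hCf.comp hCg fun x hx => hf.mem hx)
    (fun P P' f _ hle hf => extendsFix_mono hf hle le_rfl) ?_ P f hf
  intro P hPc _ hPn f hf
  have hPV := hPc.1
  haveI := finite_of_le hPV
  haveI := finite_mulAut P
  have hone : ExtendsFix F U P (autFun (1 : MulAut P)) :=
    ⟨id, isMap_id (sup_le (hPV.trans n.tS) hU.1), fun x hx => (autFun_one hx).symm, fun _ _ => rfl⟩
  have hmul : ∀ (a b : MulAut P), ExtendsFix F U P (autFun a) → ExtendsFix F U P (autFun b) →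
      ExtendsFix F U P (autFun (a * b)) := fun a b ha hb =>
    (hb.comp ha fun x hx => PrimeIndex.autFun_mem _ hx).congr (autFun_mul a b).symm
  let A : Subgroup (E.autGroup P) :=
    { carrier := {a | ExtendsFix F U P (autFun (a : MulAut P))}
      one_mem' := hone
      mul_mem' := fun {a b} ha hb => hmul _ _ ha hb
      inv_mem' := fun {a} ha => by
        obtain ⟨k, hk⟩ : ∃ k : ℕ, a⁻¹ = a ^ k := ⟨orderOf a - 1, by
          rw [inv_eq_iff_mul_eq_one, ← pow_succ', Nat.sub_add_cancel (orderOf_pos a), pow_orderOf_eq_one]⟩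
        show ExtendsFix F U P (autFun ((a⁻¹ : E.autGroup P) : MulAut P))
        rw [hk]
        clear hk
        induction k with
        | zero => exact hone
        | succ k ihk =>
          rw [pow_succ]
          exact hmul _ _ ihk ha }
  obtain ⟨Y, hY⟩ := (fullyAutomized_of_fullyNormalized n.tp n.eSat hPn).2
  have hA : A = ⊤ := by
    refine eq_top_of_sylow_coprime Y _ (fun a ha => ?_) fun a ha => fix_closed n hU hPV
      (hcen P _ ((mem_autGroup hPV).mp a.2).1) (by rwa [Subgroup.orderOf_coe])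
    rw [hY, Subgroup.mem_subgroupOf, mem_autInducedBy] at ha
    obtain ⟨t, ht, hta⟩ := ha
    refine ⟨fun x => t * x * t⁻¹, isMap_conj (sup_le (hPV.trans n.tS) hU.1) (n.tS ht),
      fun x hx => by rw [autFun_of_mem _ hx, hta ⟨x, hx⟩], fun q hq => ?_⟩
    show t * q * t⁻¹ = q
    rw [hcomm t ht q hq, mul_inv_cancel_right]
  obtain ⟨α, hα, he⟩ := hf.exists_aut
  exact ExtendsFix.congr (hA.ge (Subgroup.mem_top (⟨α, hα⟩ : E.autGroup P)) : _) he

/-- The map extends to `T C_S(T)` fixing `U`, trivial modulo the centre of `T`. -/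
def SideLift (F : FusionSystem S) (T U : Subgroup Ω) (k : Ω → Ω) : Prop :=
  ∃ γ, IsIso F (T ⊔ centralizerIn S T) (T ⊔ centralizerIn S T) γ ∧ Set.EqOn γ k T ∧
    (∀ u ∈ U, γ u = u) ∧ ∀ c ∈ centralizerIn S T, c⁻¹ * γ c ∈ T ⊓ Subgroup.centralizer (T : Set Ω)

set_option maxHeartbeats 1000000 in
theorem side_lift (n : NData F E p) (hU : F.StronglyClosed U)
    (hcomm : ∀ t ∈ T, ∀ u ∈ U, t * u = u * t) (hcen : ∀ P f, IsMap E P f → ExtendsFix E (U ⊓ T) P f)
    {k : Ω → Ω} (hk : IsIso E T T k) : SideLift F T U k := by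
  haveI := n.finiteT
  haveI := finite_mulAut T
  set DT := T ⊔ centralizerIn S T with hDT
  have hDTS : DT ≤ S := sup_le n.tS (Fusion.centralizerIn_le _ _)
  haveI := finite_of_le hDTS
  haveI := finite_mulAut DT
  have hUC : U ≤ centralizerIn S T := fun u hu => ⟨hU.1 hu, Subgroup.mem_centralizer_iff.mpr
    fun t ht => hcomm t ht u hu⟩
  have hone : SideLift F T U (autFun (1 : MulAut T)) := ⟨id, isIso_id hDTS,
    fun x hx => (autFun_one hx).symm, fun _ _ => rfl, fun c _ => by simp⟩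
  have hmul : ∀ a b : MulAut T, SideLift F T U (autFun a) → SideLift F T U (autFun b) →
      SideLift F T U (autFun (a * b)) := by
    rintro a b ⟨γa, ha, hae, haf, hac⟩ ⟨γb, hb, hbe, hbf, hbc⟩
    refine ⟨γa ∘ γb, hb.comp ha, fun x hx => ?_, fun u hu => by rw [Function.comp_apply, hbf u hu, haf u hu],
      fun c hc => ?_⟩
    · rw [Function.comp_apply, hbe hx, hae (Inter.autFun_mem_self b hx), autFun_mul _ _ hx]
      rfl
    · have him : γb '' (T : Set Ω) = (T : Set Ω) := (Set.image_congr hbe).trans (autFun_image b)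
      have := Subgroup.mul_mem _ (hbc c hc)
        (hac _ (map_mem_centralizer hb.1 le_sup_left him (Subgroup.mem_sup_right hc) hc.2))
      convert this using 1
      simp only [Function.comp_apply]
      group
  let K : Subgroup (E.autGroup T) :=
    { carrier := {a | SideLift F T U (autFun (a : MulAut T))}
      one_mem' := hone
      mul_mem' := fun ha hb => hmul _ _ ha hb
      inv_mem' := fun {a} ha => by
        obtain ⟨m, hm⟩ : ∃ m : ℕ, a⁻¹ = a ^ m := ⟨orderOf a - 1, by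
          rw [inv_eq_iff_mul_eq_one, ← pow_succ', Nat.sub_add_cancel (orderOf_pos a), pow_orderOf_eq_one]⟩
        show SideLift F T U (autFun ((a⁻¹ : E.autGroup T) : MulAut T))
        rw [hm]
        clear hm
        induction m with
        | zero => exact hone
        | succ m ih => rw [pow_succ]; exact hmul _ _ ih ha }
  obtain ⟨Y, hY⟩ := (fullyAutomized_of_fullyNormalized n.tp n.eSat fullyNormalized_self).2
  have hK : K = ⊤ := by
    refine eq_top_of_sylow_coprime Y K (fun a ha => ?_) fun a ha => ?_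
    · rw [hY, Subgroup.mem_subgroupOf, mem_autInducedBy] at ha
      obtain ⟨t, ht, hte⟩ := ha
      refine ⟨fun x => t * x * t⁻¹, ⟨isMap_conj hDTS (n.tS ht),
        image_conj_eq_self (DT.le_normalizer (Subgroup.mem_sup_left ht))⟩,
        fun x hx => by rw [autFun_of_mem _ hx]; exact (hte ⟨x, hx⟩).symm, fun u hu => ?_, fun c hc => ?_⟩
      · show t * u * t⁻¹ = u
        rw [hcomm t ht u hu, mul_inv_cancel_right]
      · show c⁻¹ * (t * c * t⁻¹) ∈ _
        rw [Subgroup.mem_centralizer_iff.mp hc.2 t ht, mul_inv_cancel_right, inv_mul_cancel]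
        exact Subgroup.one_mem _
    · have hai := (mem_autGroup le_rfl).mp a.2
      obtain ⟨γ₀, hγ₀, hγ₀e, hγ₀c⟩ := Fus93.normal_ext n.normal hai
      obtain ⟨A, hA, hAe⟩ := hγ₀.exists_aut
      obtain ⟨m, hm, hme⟩ := exists_pow_coprime (p := p) A (a : MulAut T) (by rwa [Subgroup.orderOf_coe])
      have hmod₀ : ∀ x ∈ DT, x⁻¹ * autFun A x ∈ T := fun x hx => by
        rw [hAe hx]
        exact Inter.mod_sup (inf_le_right.trans (Subgroup.centralizer_le_normalizer _)) hγ₀.1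
          (fun y hy => hγ₀e y hy ▸ Inter.autFun_mem_self _ hy) (fun c hc => (hγ₀c c hc).1) x hx
      have hγe : ∀ x ∈ T, autFun (A ^ m) x = autFun (a : MulAut T) x := fun x hx => by
        rw [pow_restrict le_sup_left (fun y hy => (hAe (Subgroup.mem_sup_left hy)).trans (hγ₀e y hy)) m x hx,
          hme]
      have hγ := (mem_autGroup hDTS).mp (Subgroup.pow_mem _ hA m)
      have hmod := Inter.mod_pow hmod₀ m
      have him : autFun (A ^ m) '' (T : Set Ω) = (T : Set Ω) :=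
        (Set.image_congr hγe).trans (autFun_image _)
      refine ⟨autFun (A ^ m), hγ, hγe, fun u hu => ?_, fun c hc => ⟨hmod c (Subgroup.mem_sup_right hc),
        Subgroup.mul_mem _ (Subgroup.inv_mem _ hc.2)
          (map_mem_centralizer hγ.1 le_sup_left him (Subgroup.mem_sup_right hc) hc.2).2⟩⟩
      have huD : u ∈ DT := Subgroup.mem_sup_right (hUC hu)
      have hd : u⁻¹ * autFun (A ^ m) u ∈ U ⊓ T :=
        ⟨U.mul_mem (U.inv_mem hu) (Fusion92.closed_apply hU hγ.1 huD hu), hmod u huD⟩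
      refine fix_of_cop n.pgroup hγ.1 (fun y hy => hγ.mem hy) (Inter.cop_of_pow hm le_rfl) huD ?_
      rw [hγe _ hd.2]
      obtain ⟨g, -, hge, hgfix⟩ := hcen T _ hai.1
      rw [← hge hd.2]
      exact hgfix _ hd
  obtain ⟨α, hα, hαe⟩ := hk.exists_aut
  obtain ⟨γ, h1, h2, h3, h4⟩ :=
    (hK.ge (Subgroup.mem_top (⟨α, hα⟩ : E.autGroup T)) : SideLift F T U (autFun α))
  exact ⟨γ, h1, h2.trans hαe, h3, h4⟩

variable {T₁ T₂ W : Subgroup Ω} {E₁ : FusionSystem T₁} {E₂ : FusionSystem T₂} {D : FusionSystem W}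
  {D₀ : FusionSystem (T₁.prod T₂)} {θ : ↥(T₁.prod T₂) →* Ω}

set_option maxHeartbeats 1000000 in
/-- The product is normal when the intersection is central in both factors. -/
theorem PData.normal_of_central (h : PData F E₁ E₂ D p D₀ θ)
    (hc₁ : ∀ P f, IsMap E₁ P f → ExtendsFix E₁ (T₂ ⊓ T₁) P f)
    (hc₂ : ∀ P f, IsMap E₂ P f → ExtendsFix E₂ (T₁ ⊓ T₂) P f) : D.IsNormalIn F p := by
  refine Fus93.isNormalIn_of h.weaklyNormal fun k hk => ?_
  haveI := h.n₁.finiteT
  haveI := h.n₂.finiteT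
  haveI := finite_of_le h.uS
  obtain ⟨f₁, f₂, hf₁, hf₂, he⟩ := h.cp.lift hk.1
  have hp₁ : T₁ ≤ proj₁ θ W := fun a ha =>
    (h.cp.mem_proj ha T₂.one_mem (by rw [mul_one]; exact h.cp.left ha)).1
  have hp₂ : T₂ ≤ proj₂ θ W := fun b hb =>
    (h.cp.mem_proj T₁.one_mem hb (by rw [one_mul]; exact h.cp.right hb)).2
  have hk₁ : IsIso E₁ T₁ T₁ f₁ := isIso_of_mapsTo (hf₁.mono hp₁) le_rfl
    (fun x hx => hf₁.apply_mem (hp₁ hx)) le_rfl
  have hk₂ : IsIso E₂ T₂ T₂ f₂ := isIso_of_mapsTo (hf₂.mono hp₂) le_rfl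
    (fun x hx => hf₂.apply_mem (hp₂ hx)) le_rfl
  obtain ⟨γ₁, hγ₁, he₁, hfix₁, hγ₁c⟩ := side_lift h.n₁ h.n₂.closed h.cp.comm hc₁ hk₁
  obtain ⟨γ₂, hγ₂, he₂, hfix₂, hγ₂c⟩ :=
    side_lift h.n₂ h.n₁.closed (fun b hb a ha => (h.cp.comm a ha b hb).symm) hc₂ hk₂
  set M := W ⊔ centralizerIn S W with hM
  have hMS : M ≤ S := sup_le h.uS (Fusion.centralizerIn_le _ _)
  haveI := finite_of_le hMS
  have hT₂C : T₂ ≤ centralizerIn S T₁ := fun b hb => ⟨h.n₂.tS hb, Subgroup.mem_centralizer_iff.mpr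
    fun a ha => h.cp.comm a ha b hb⟩
  have hT₁C : T₁ ≤ centralizerIn S T₂ := fun a ha => ⟨h.n₁.tS ha, Subgroup.mem_centralizer_iff.mpr
    fun b hb => (h.cp.comm a ha b hb).symm⟩
  have hle₁ : M ≤ T₁ ⊔ centralizerIn S T₁ := sup_le
    (h.u_eq.le.trans (sup_le_sup_left hT₂C T₁))
    ((inf_le_inf_left _ (Subgroup.centralizer_le h.cp.left)).trans le_sup_right)
  have hle₂ : M ≤ T₂ ⊔ centralizerIn S T₂ := sup_le
    (h.u_eq.le.trans (sup_le (hT₁C.trans le_sup_right) le_sup_left))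
    ((inf_le_inf_left _ (Subgroup.centralizer_le h.cp.right)).trans le_sup_right)
  have hWC₁ : centralizerIn S W ≤ centralizerIn S T₁ := inf_le_inf_left _ (Subgroup.centralizer_le h.cp.left)
  have hWC₂ : centralizerIn S W ≤ centralizerIn S T₂ := inf_le_inf_left _ (Subgroup.centralizer_le h.cp.right)
  have hW₂ : ∀ a ∈ T₁, ∀ b ∈ T₂, γ₂ (a * b) = a * f₂ b := fun a ha b hb => by
    rw [hγ₂.1.map_mul (Subgroup.mem_sup_right (hT₁C ha)) (Subgroup.mem_sup_left hb), hfix₂ a ha, he₂ hb]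
  have hzc₁ : ∀ z ∈ T₁ ⊓ Subgroup.centralizer (T₁ : Set Ω), z ∈ W ⊓ Subgroup.centralizer (W : Set Ω) :=
    fun z hz => ⟨h.cp.left hz.1, Subgroup.mem_centralizer_iff.mpr fun x hx => by
      obtain ⟨a, ha, b, hb, rfl⟩ := h.cp.mem_u.mp hx
      rw [mul_assoc, ← h.cp.comm z hz.1 b hb, ← mul_assoc, Subgroup.mem_centralizer_iff.mp hz.2 a ha,
        mul_assoc]⟩
  have hzc₂ : ∀ z ∈ T₂ ⊓ Subgroup.centralizer (T₂ : Set Ω), z ∈ W ⊓ Subgroup.centralizer (W : Set Ω) :=
    fun z hz => ⟨h.cp.right hz.1, Subgroup.mem_centralizer_iff.mpr fun x hx => by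
      obtain ⟨a, ha, b, hb, rfl⟩ := h.cp.mem_u.mp hx
      rw [mul_assoc, Subgroup.mem_centralizer_iff.mp hz.2 b hb, ← mul_assoc, h.cp.comm a ha z hz.1,
        mul_assoc]⟩
  have hC₂ : ∀ c ∈ centralizerIn S W, γ₂ c ∈ M := fun c hc => by
    have h1 := hzc₂ _ (hγ₂c c (hWC₂ hc))
    have := M.mul_mem (Subgroup.mem_sup_right hc) (Subgroup.mem_sup_left h1.1 : _ ∈ M)
    rwa [mul_inv_cancel_left] at this
  have hm₂ : ∀ x ∈ M, γ₂ x ∈ M := isMap_mem_sup (hγ₂.1.mono hle₂) le_sup_left le_sup_right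
    (fun x hx => by
      obtain ⟨a, ha, b, hb, rfl⟩ := h.cp.mem_u.mp hx
      rw [hW₂ a ha b hb]
      exact Subgroup.mem_sup_left (W.mul_mem (h.cp.left ha) (h.cp.right (hk₂.mem hb)))) hC₂
  have hcomp : IsMap F M (γ₁ ∘ γ₂) :=
    (hγ₂.1.mono hle₂).comp (hγ₁.1.mono hle₁) hm₂
  have hval : ∀ x ∈ W, γ₁ (γ₂ x) = k x := fun x hx => by
    obtain ⟨a, ha, b, hb, rfl⟩ := h.cp.mem_u.mp hx
    rw [hW₂ a ha b hb, hγ₁.1.map_mul (Subgroup.mem_sup_left ha)
      (Subgroup.mem_sup_right (hT₂C (hk₂.mem hb))), he₁ ha, hfix₁ _ (hk₂.mem hb), he a ha b hb hx]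
  have hcen : ∀ c ∈ centralizerIn S W, c⁻¹ * γ₁ (γ₂ c) ∈ W ⊓ Subgroup.centralizer (W : Set Ω) := by
    intro c hc
    have hz := hγ₂c c (hWC₂ hc)
    have e : γ₂ c = c * (c⁻¹ * γ₂ c) := (mul_inv_cancel_left _ _).symm
    rw [e, hγ₁.1.map_mul (Subgroup.mem_sup_right (hWC₁ hc)) (Subgroup.mem_sup_right (hT₂C hz.1)),
      hfix₁ _ hz.1, ← mul_assoc]
    exact Subgroup.mul_mem _ (hzc₁ _ (hγ₁c c (hWC₁ hc))) (hzc₂ _ hz)
  refine ⟨γ₁ ∘ γ₂, isIso_of_mapsTo hcomp hMS (isMap_mem_sup hcomp le_sup_left le_sup_right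
    (fun x hx => Subgroup.mem_sup_left (by rw [Function.comp_apply, hval x hx]; exact hk.mem hx))
    fun c hc => by
      have := M.mul_mem (Subgroup.mem_sup_right hc) (Subgroup.mem_sup_left (hcen c hc).1 : _ ∈ M)
      rwa [mul_inv_cancel_left] at this) le_rfl, hval, hcen⟩

/-- The product of two commuting normal subsystems meeting centrally is normal. -/
theorem exists_normal_product (n₁ : NData F E₁ p) (n₂ : NData F E₂ p)
    (hcomm : ∀ a ∈ T₁, ∀ b ∈ T₂, a * b = b * a) (h₁ : T₁ ⊓ T₂ ≤ E₁.center) (h₂ : T₁ ⊓ T₂ ≤ E₂.center) :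
    ∃ D : FusionSystem (T₁ ⊔ T₂), D.IsNormalIn F p ∧ FusionSystem.IsCentralProductOf E₁ E₂ D := by
  haveI := n₁.finiteT
  haveI := n₂.finiteT
  have hc₁ : ∀ P f, IsMap E₁ P f → ExtendsFix E₁ (T₂ ⊓ T₁) P f := fun P f hf =>
    extendsFix_mono ((isCentral_iff.1 (Fusion91.isCentral_center E₁)).2 P f hf) le_rfl
      ((inf_comm T₂ T₁).le.trans h₁)
  have hc₂ : ∀ P f, IsMap E₂ P f → ExtendsFix E₂ (T₁ ⊓ T₂) P f := fun P f hf =>
    extendsFix_mono ((isCentral_iff.1 (Fusion91.isCentral_center E₂)).2 P f hf) le_rfl h₂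
  obtain ⟨W, D, D₀, θ, hP, hcp⟩ := exists_product n₁ n₂ hcomm
    (fun P f hf => ext_of_central n₁ n₂.closed hcomm hc₁ hf)
    fun P f hf => ext_of_central n₂ n₁.closed (fun b hb a ha => (hcomm a ha b hb).symm) hc₂ hf
  obtain rfl := hP.u_eq
  exact ⟨D, hP.normal_of_central hc₁ hc₂, hcp⟩

set_option maxHeartbeats 1000000 in
/-- A normal subsystem contains one over the same group in which a central strongly closed subgroup
is central. -/
theorem exists_fixing (n : NData F E p) {Z : Subgroup Ω} (hZ : F.StronglyClosed Z) (hZT : Z ≤ T)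
    (hZc : ∀ z ∈ Z, ∀ t ∈ T, z * t = t * z) :
    ∃ E' : FusionSystem T, NData F E' p ∧ Z ≤ E'.center := by
  haveI := n.finiteT
  have hCT : centralizerIn T Z = T := le_antisymm inf_le_left fun t ht =>
    ⟨ht, Subgroup.mem_centralizer_iff.mpr fun z hz => hZc z hz t ht⟩
  have hZn : E.IsFullyNormalized Z := Inter.fullyNormalized_of_normalized hZT fun t ht =>
    Subgroup.centralizer_le_normalizer _ (Subgroup.mem_centralizer_iff.mpr fun z hz => hZc z hz t ht)
  have hZE : E.StronglyClosed Z := stronglyClosed_iff.mpr ⟨hZT, fun P f hf x hx hxZ =>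
    Fusion92.closed_apply hZ (hf.of_isSubsystemOf n.sub) hx hxZ⟩
  have hZnorm : E.IsNormal Z := isNormal_of_abelian n.tp n.eSat hZE fun x hx y hy => hZc x hx y (hZT hy)
  have hCsat := centralizerSystem_isSaturated n.tp n.eSat
    (fullyCentralized_of_fullyNormalized n.tp n.eSat hZn)
  have hC := isCentralizerSystem_centralizerSystem (F := E) Z hZT
  obtain ⟨G, hGsat, hG⟩ : ∃ G : FusionSystem T, G.IsSaturated p ∧
      ∀ P f, IsMap G P f ↔ IsMap (centralizerSystem E Z hZT) P f := by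
    have : ∀ R : Subgroup Ω, centralizerIn T Z = R → ∃ G : FusionSystem R, G.IsSaturated p ∧
        ∀ P f, IsMap G P f ↔ IsMap (centralizerSystem E Z hZT) P f := by
      rintro R rfl
      exact ⟨_, hCsat, fun _ _ => Iff.rfl⟩
    exact this T hCT
  have hmap : ∀ {P : Subgroup Ω} {f : Ω → Ω}, IsMap G P f ↔ (IsMap E P f ∧ ExtendsFix E Z P f) := by
    intro P f
    rw [hG, IsCentralizerSystem.isMap_iff hC, hCT]
    exact ⟨fun h => ⟨h.1, h.2.2.2⟩, fun h => ⟨h.1, h.1.dom_le, fun x hx => h.1.apply_mem hx, h.2⟩⟩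
  have hGE : G.IsSubsystemOf E := fun P => hom_subset_of_isMap fun f hf => (hmap.1 hf).1
  have hGw : G.IsWeaklyNormalIn F p := by
    refine ⟨hGsat, n.sat, Fus93.isInvariantIn_of (fun P => (hGE P).trans (n.sub P)) n.closed ?_ ?_⟩
    · intro P f hf k hk P' hP'
      obtain ⟨hfE, f', hf', hfe, hfix⟩ := hmap.1 hf
      obtain ⟨g, hg, hge⟩ := invariant_inv n.invariant hfE hk hP'
      obtain ⟨R, hR⟩ := (hk.1.mono hf'.dom_le).exists_image
      obtain ⟨g', hg', hg'e⟩ := invariant_inv n.invariant hf' hk hR.2.symm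
      have hP'R : P' ≤ R := fun y hy => by
        obtain ⟨x, hx, rfl⟩ := (Set.ext_iff.mp hP' y).mp hy
        exact hR.mem (Subgroup.mem_sup_left hx)
      have hZk : ∀ z ∈ Z, ∃ w ∈ Z, k w = z := fun z hz => by
        obtain ⟨ki, hki, -, hkr⟩ := hk.exists_inv
        exact ⟨ki z, Fusion92.closed_apply hZ hki.1 (hZT hz) hz, hkr z (hZT hz)⟩
      have hZR : Z ≤ R := fun z hz => by
        obtain ⟨w, hw, rfl⟩ := hZk z hz
        exact hR.mem (Subgroup.mem_sup_right hw)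
      refine ⟨g, hmap.2 ⟨hg, g', hg'.mono (sup_le hP'R hZR), fun y hy => ?_, fun z hz => ?_⟩, hge⟩
      · obtain ⟨x, hx, rfl⟩ := (Set.ext_iff.mp hP' y).mp hy
        rw [hg'e x (Subgroup.mem_sup_left hx), hge x hx, hfe hx]
      · obtain ⟨w, hw, rfl⟩ := hZk z hz
        rw [hg'e w (Subgroup.mem_sup_right hw), hfix w hw]
    · intro P f hf hP
      obtain ⟨k, e, hk, he, hke⟩ := invariant_frattini n.invariant hf hP
      obtain ⟨e', he', hee, heZ⟩ := normal_extendsStab hZnorm he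
      obtain ⟨b, hb, hbe⟩ := receptive_extend (receptive_of_fullyNormalized n.tp n.eSat hZn)
        (show IsIso E Z Z e' from ⟨he'.mono le_sup_right, heZ⟩) (isExtendable_centralizerIn e')
      have hbT : IsIso E T T b := isIso_of_mapsTo (hb.mono (hCT.ge.trans le_sup_right)) le_rfl
        (fun x hx => hb.apply_mem (le_sup_right (a := Z) (hCT.ge hx))) le_rfl
      obtain ⟨bi, hbi, hbl, hbr⟩ := hbT.exists_inv
      have hm : IsMap E (P ⊔ Z) (bi ∘ e') := he'.comp hbi.1 fun x hx => he'.apply_mem hx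
      refine ⟨k ∘ b, bi ∘ e', (show IsIso F T T b from ⟨hbT.1.of_isSubsystemOf n.sub, hbT.2⟩).comp hk,
        hmap.2 ⟨hm.mono le_sup_left, bi ∘ e', hm, fun _ _ => rfl, fun z hz => ?_⟩, fun x hx => ?_⟩
      · rw [Function.comp_apply, ← hbe hz, hbl z (hZT hz)]
      · rw [Function.comp_apply, Function.comp_apply,
          hbr _ (he'.apply_mem (Subgroup.mem_sup_left hx)), hee hx, hke x hx]
  obtain ⟨E', hE'⟩ := S5140.result p n.tp G hGsat
  refine ⟨E', ⟨n.pgroup, n.sat, S5141.result p n.pgroup F n.sat G hGw E' hE'⟩, ?_⟩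
  refine le_sSup (isCentral_of_fixed n.tp hE'.1 hZT fun P f hf x hx hxZ => ?_)
  obtain ⟨-, f', -, hfe, hfix⟩ := hmap.1 (hf.of_isSubsystemOf hE'.2.1.1)
  rw [← hfe hx, hfix x hxZ]

end Cfsg.Agent.Fusion.Comp
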