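import Cfsg.Agent.Lib.Fusion.Comp.CentralPair
import Cfsg.Agent.Lib.Fusion.Comp.Commute

/-!
# The factors of a central product are normal
-/

set_option autoImplicit false
set_option linter.style.haveILetI false

namespace Cfsg.Agent.Fusion.Comp

open Cfsg Cfsg.Agent.Fusion Cfsg.Agent.Fusion.NormalLift
open Cfsg.FusionSystem (normalizerIn centralizerIn imageAlong preimageAlong)

variable {Ω : Type*} [Group Ω] {S₁ S₂ S : Subgroup Ω} {F₁ : FusionSystem S₁} {F₂ : FusionSystem S₂}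
  {F : FusionSystem S} {p : ℕ} [Fact p.Prime] [Finite S]
  {D₀ : FusionSystem (S₁.prod S₂)} {θ : ↥(S₁.prod S₂) →* Ω}

omit [Fact p.Prime] [Finite S] in
/-- A map of the central product on a subgroup of the first factor is a map of the first factor. -/
theorem CPair.map_of_le₁ (h : CPair F₁ F₂ F D₀ θ) {P : Subgroup Ω} {f : Ω → Ω} (hf : IsMap F P f)
    (hP : P ≤ S₁) : IsMap F₁ P f := by
  obtain ⟨f₁, f₂, hf₁, hf₂, he⟩ := h.lift hf
  have hmem : ∀ x ∈ P, x ∈ proj₁ θ P := fun x hx =>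
    (h.mem_proj (hP hx) S₂.one_mem (by rwa [mul_one])).1
  refine (hf₁.mono hmem).congr fun x hx => ?_
  have := he x (hP hx) 1 S₂.one_mem (by rwa [mul_one])
  rw [mul_one, hf₂.map_one, mul_one] at this
  exact this.symm

omit [Fact p.Prime] [Finite S] in
/-- A map of the central product on a subgroup of the second factor is a map of the second factor. -/
theorem CPair.map_of_le₂ (h : CPair F₁ F₂ F D₀ θ) {P : Subgroup Ω} {f : Ω → Ω} (hf : IsMap F P f)
    (hP : P ≤ S₂) : IsMap F₂ P f := by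
  obtain ⟨f₁, f₂, hf₁, hf₂, he⟩ := h.lift hf
  have hmem : ∀ x ∈ P, x ∈ proj₂ θ P := fun x hx =>
    (h.mem_proj S₁.one_mem (hP hx) (by rwa [one_mul])).2
  refine (hf₂.mono hmem).congr fun x hx => ?_
  have := he 1 S₁.one_mem x (hP hx) (by rwa [one_mul])
  rw [one_mul, hf₁.map_one, one_mul] at this
  exact this.symm

set_option linter.unusedSectionVars false in
/-- Normality of a subsystem containing every map of `F` on subgroups of its group, whose
automorphisms extend by automorphisms trivial modulo the group. -/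
theorem isNormalIn_of_all {T : Subgroup Ω} {E : FusionSystem T} (hE : E.IsSaturated p)
    (hF : F.IsSaturated p) (hsub : E.IsSubsystemOf F) (hT : T ≤ S)
    (hall : ∀ P f, IsMap F P f → P ≤ T → IsMap E P f)
    (hext : ∀ k, IsIso E T T k → ∃ g, IsIso F (T ⊔ centralizerIn S T) (T ⊔ centralizerIn S T) g ∧
      (∀ x ∈ T, g x = k x) ∧ ∀ c ∈ centralizerIn S T, c⁻¹ * g c ∈ T ⊓ Subgroup.centralizer (T : Set Ω)) :
    E.IsNormalIn F p := by
  haveI := finite_of_le hT
  have hcl : F.StronglyClosed T := stronglyClosed_iff.mpr ⟨hT, fun P f hf x hx hxT =>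
    (hall (P ⊓ T) f (hf.mono inf_le_left) inf_le_right).apply_mem ⟨hx, hxT⟩⟩
  refine Fus93.isNormalIn_of ⟨hE, hF, Fus93.isInvariantIn_of hsub hcl ?_ fun P f hf hP =>
    ⟨id, f, isIso_id hT, hall P f hf hP, fun _ _ => rfl⟩⟩ hext
  intro P f hf k hk P' hP'
  have hkE : IsIso E T T k := ⟨hall T k hk.1 le_rfl, hk.2⟩
  obtain ⟨ki, hki, hkl, -⟩ := hkE.exists_inv
  have hP'T : P' ≤ T := fun y hy => by
    obtain ⟨x, hx, rfl⟩ := (Set.ext_iff.mp hP' y).mp hy
    exact hkE.mem (hf.dom_le hx)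
  refine ⟨k ∘ f ∘ ki, ((hki.1.mono hP'T).comp (hf.comp hkE.1 fun x hx => hf.apply_mem hx) fun y hy => ?_),
    fun x hx => ?_⟩
  · obtain ⟨x, hx, rfl⟩ := (Set.ext_iff.mp hP' y).mp hy
    rw [hkl x (hf.dom_le hx)]
    exact hx
  · simp only [Function.comp_apply, hkl x (hf.dom_le hx)]

set_option linter.unusedSectionVars false in
/-- Both factors of a central product are normal. -/
theorem CPair.factors_normal (h : CPair F₁ F₂ F D₀ θ) (h₁ : F₁.IsSaturated p) (h₂ : F₂.IsSaturated p)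
    (h₁F : F₁.IsSubsystemOf F) (h₂F : F₂.IsSubsystemOf F) (hF : F.IsSaturated p) :
    F₁.IsNormalIn F p ∧ F₂.IsNormalIn F p := by
  haveI := finite_of_le h.left
  haveI := finite_of_le h.right
  have hC : ∀ {A B : Subgroup Ω}, (∀ x ∈ S, ∃ a ∈ A, ∃ b ∈ B, x = a * b) → (∀ a ∈ A, ∀ b ∈ B, a * b = b * a) →
      ∀ c ∈ centralizerIn S A, ∃ a ∈ A ⊓ Subgroup.centralizer (A : Set Ω), ∃ b ∈ B, c = a * b := by
    intro A B hdec hcomm c hc
    obtain ⟨a, ha, b, hb, rfl⟩ := hdec c hc.1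
    refine ⟨a, ⟨ha, Subgroup.mem_centralizer_iff.mpr fun y hy => ?_⟩, b, hb, rfl⟩
    have h1 := Subgroup.mem_centralizer_iff.mp hc.2 y hy
    have h2 := hcomm y hy b hb
    calc y * a = y * (a * b) * b⁻¹ := by group
      _ = a * (b * y) * b⁻¹ := by rw [h1]; group
      _ = a * y := by rw [← h2]; group
  constructor
  · refine isNormalIn_of_all h₁ hF h₁F h.left (fun P f hf hP => h.map_of_le₁ hf hP) fun k hk => ?_
    have hkfix : ∀ w ∈ S₁ ⊓ S₂, k w = w := fun w hw => by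
      obtain ⟨g, -, he, hfix⟩ := h.fix₁ hk.1
      rw [← he hw.1]
      exact hfix w hw
    obtain ⟨m, hm, hm₁, hm₂, hmm⟩ := h.exists_combine hk.1 (isMap_id le_rfl) inf_le_left inf_le_right
      hkfix fun _ _ => rfl
    have hle : S₁ ⊔ centralizerIn S S₁ ≤ S₁ ⊔ S₂ := sup_le le_sup_left fun c hc => by
      obtain ⟨a, ha, b, hb, rfl⟩ := h.mem_u.mp hc.1
      exact Subgroup.mul_mem _ (Subgroup.mem_sup_left ha) (Subgroup.mem_sup_right hb)
    have hmC : ∀ c ∈ centralizerIn S S₁, c⁻¹ * m c ∈ S₁ ⊓ Subgroup.centralizer (S₁ : Set Ω) := fun c hc => by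
      obtain ⟨a, ha, b, hb, rfl⟩ := hC (fun x hx => h.mem_u.mp hx) h.comm c hc
      have hka : k a ∈ S₁ ⊓ Subgroup.centralizer (S₁ : Set Ω) := ⟨hk.mem ha.1,
        Subgroup.mem_centralizer_iff.mpr fun y hy => by
          obtain ⟨x, hx, rfl⟩ := hk.exists_preimage hy
          rw [← hk.1.map_mul hx ha.1, Subgroup.mem_centralizer_iff.mp ha.2 x hx, hk.1.map_mul ha.1 hx]⟩
      rw [hmm a ha.1 b hb, mul_inv_rev, id, ← mul_assoc,
        show b⁻¹ * a⁻¹ * k a * b = b⁻¹ * (a⁻¹ * k a * b) by group,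
        h.comm _ (S₁.mul_mem (S₁.inv_mem ha.1) hka.1) b hb, inv_mul_cancel_left]
      exact Subgroup.mul_mem _ (Subgroup.inv_mem _ ha) hka
    refine ⟨m, isIso_of_mapsTo (hm.mono hle) (sup_le h.left (Fusion.centralizerIn_le _ _))
      (isMap_mem_sup (hm.mono hle) le_sup_left le_sup_right
        (fun x hx => Subgroup.mem_sup_left (hm₁ hx ▸ hk.mem hx))
        fun c hc => by
          have := Subgroup.mul_mem _ (Subgroup.mem_sup_right hc) (Subgroup.mem_sup_left (hmC c hc).1 : _ ∈ S₁ ⊔ centralizerIn S S₁)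
          rwa [mul_inv_cancel_left] at this) le_rfl, fun x hx => hm₁ hx, hmC⟩
  · refine isNormalIn_of_all h₂ hF h₂F h.right (fun P f hf hP => h.map_of_le₂ hf hP) fun k hk => ?_
    have hkfix : ∀ w ∈ S₁ ⊓ S₂, k w = w := fun w hw => by
      obtain ⟨g, -, he, hfix⟩ := h.fix₂ hk.1
      rw [← he hw.2]
      exact hfix w hw
    obtain ⟨m, hm, hm₁, hm₂, hmm⟩ := h.exists_combine (isMap_id le_rfl) hk.1 inf_le_left inf_le_right
      (fun _ _ => rfl) hkfix
    have hle : S₂ ⊔ centralizerIn S S₂ ≤ S₁ ⊔ S₂ := sup_le le_sup_right fun c hc => by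
      obtain ⟨a, ha, b, hb, rfl⟩ := h.mem_u.mp hc.1
      exact Subgroup.mul_mem _ (Subgroup.mem_sup_left ha) (Subgroup.mem_sup_right hb)
    have hmC : ∀ c ∈ centralizerIn S S₂, c⁻¹ * m c ∈ S₂ ⊓ Subgroup.centralizer (S₂ : Set Ω) := fun c hc => by
      obtain ⟨b, hb, a, ha, rfl⟩ := hC (fun x hx => by
        obtain ⟨a, ha, b, hb, rfl⟩ := h.mem_u.mp hx
        exact ⟨b, hb, a, ha, h.comm a ha b hb⟩) (fun b hb a ha => (h.comm a ha b hb).symm) c hc
      have hkb : k b ∈ S₂ ⊓ Subgroup.centralizer (S₂ : Set Ω) := ⟨hk.mem hb.1,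
        Subgroup.mem_centralizer_iff.mpr fun y hy => by
          obtain ⟨x, hx, rfl⟩ := hk.exists_preimage hy
          rw [← hk.1.map_mul hx hb.1, Subgroup.mem_centralizer_iff.mp hb.2 x hx, hk.1.map_mul hb.1 hx]⟩
      rw [← h.comm a ha b hb.1, hmm a ha b hb.1, id, mul_inv_rev, mul_assoc, inv_mul_cancel_left]
      exact Subgroup.mul_mem _ (Subgroup.inv_mem _ hb) hkb
    refine ⟨m, isIso_of_mapsTo (hm.mono hle) (sup_le h.right (Fusion.centralizerIn_le _ _))
      (isMap_mem_sup (hm.mono hle) le_sup_left le_sup_right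
        (fun x hx => Subgroup.mem_sup_left (hm₂ hx ▸ hk.mem hx))
        fun c hc => by
          have := Subgroup.mul_mem _ (Subgroup.mem_sup_right hc) (Subgroup.mem_sup_left (hmC c hc).1 : _ ∈ S₂ ⊔ centralizerIn S S₂)
          rwa [mul_inv_cancel_left] at this) le_rfl, fun x hx => hm₂ hx, hmC⟩

/-- A component of a central product is a component of a factor. -/
theorem component_factor (hS : IsPGroup p S) (hF : F.IsSaturated p) (h₁ : F₁.IsSaturated p)
    (h₂ : F₂.IsSaturated p) (h₁F : F₁.IsSubsystemOf F) (h₂F : F₂.IsSubsystemOf F)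
    (hc : FusionSystem.IsCentralProductOf F₁ F₂ F) {T : Subgroup Ω} {C : FusionSystem T}
    (hC : C.IsComponentIn F p) : C.IsComponentIn F₁ p ∨ C.IsComponentIn F₂ p := by
  have hS₁ : S₁ ≤ S := ((isMap_id (F := F₁) le_rfl).of_isSubsystemOf h₁F).dom_le
  have hS₂ : S₂ ≤ S := ((isMap_id (F := F₂) le_rfl).of_isSubsystemOf h₂F).dom_le
  haveI := finite_of_le hS₁
  haveI := finite_of_le hS₂
  obtain ⟨D₀, θ, h⟩ := exists_cpair (hS.to_le hS₁) (hS.to_le hS₂) h₁ h₂ hc
  obtain ⟨hn₁, hn₂⟩ := h.factors_normal h₁ h₂ h₁F h₂F hF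
  rcases component_cases hS hF hC hn₁ with h1 | ⟨h1, -⟩
  · exact Or.inl h1
  rcases component_cases hS hF hC hn₂ with h2 | ⟨h2, -⟩
  · exact Or.inr h2
  refine absurd (fun t ht s hs => ?_) (component_not_comm hS hC)
  obtain ⟨a, ha, b, hb, rfl⟩ := h.mem_u.mp (Fusion91.le_of_subnormal hC.1 hs)
  have e1 := Subgroup.mem_centralizer_iff.mp (h1 t ht) a ha
  have e2 := Subgroup.mem_centralizer_iff.mp (h2 t ht) b hb
  calc t * (a * b) = (t * a) * b := by group
    _ = a * (t * b) := by rw [← e1]; group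
    _ = a * b * t := by rw [← e2]; group

end Cfsg.Agent.Fusion.Comp
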