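import Cfsg.Agent.Lib.Fusion.Comp.Stab
import Cfsg.Agent.Lib.Fusion.NormalCentralizer

/-!
# Coprime automorphisms of a normal subsystem fixing its part of a strongly closed subgroup

If `U` is strongly closed in `F` and `E` is normal over `T`, an automorphism of order prime to `p`
in `E` fixing `U ∩ T` extends to `F` fixing `U`.
-/

set_option autoImplicit false
set_option linter.style.haveILetI false

namespace Cfsg.Agent.Fusion.Comp

open Cfsg Cfsg.Agent.Fusion Cfsg.Agent.Fusion.NormalLift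
open Cfsg.FusionSystem (normalizerIn centralizerIn)

variable {Ω : Type*} [Group Ω] {S T U : Subgroup Ω} {F : FusionSystem S} {E : FusionSystem T} {p : ℕ}
  [Finite S] [Fact p.Prime]

/-- Powers of an automorphism restricting to an automorphism of a subgroup. -/
theorem pow_restrict {M D : Subgroup Ω} (hDM : D ≤ M) {A : MulAut M} {a : MulAut D}
    (he : Set.EqOn (autFun A) (autFun a) D) (n : ℕ) : ∀ x ∈ D, autFun (A ^ n) x = autFun (a ^ n) x := by
  induction n with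
  | zero => intro x hx; rw [pow_zero, pow_zero, autFun_one (hDM hx), autFun_one hx]
  | succ n ih =>
    intro x hx
    rw [pow_succ, pow_succ, autFun_mul _ _ (hDM hx), autFun_mul _ _ hx,
      Function.comp_apply, Function.comp_apply, he hx, ih _ (Inter.autFun_mem_self _ hx)]

omit [Fact p.Prime] in
/-- `U` normalizes every subgroup between `U ∩ T` and `T`. -/
theorem mem_normalizer_of_le (h : NData F E p) (hU : F.StronglyClosed U) {R : Subgroup Ω}
    (hWR : U ⊓ T ≤ R) (hRT : R ≤ T) {u : Ω} (hu : u ∈ U) :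
    u ∈ Subgroup.normalizer (R : Set Ω) ∧ ∀ x ∈ R, x⁻¹ * (u * x * u⁻¹) ∈ U ⊓ T := by
  have key : ∀ u ∈ U, ∀ x ∈ R, x⁻¹ * (u * x * u⁻¹) ∈ U ⊓ T := fun u hu x hx => by
    have hxS : x ∈ S := h.tS (hRT hx)
    refine ⟨?_, T.mul_mem (T.inv_mem (hRT hx)) (h.conj_t (hU.1 hu) (hRT hx))⟩
    rw [show x⁻¹ * (u * x * u⁻¹) = x⁻¹ * u * x * u⁻¹ by group]
    have := Fusion92.conj_mem_closed hU (S.inv_mem hxS) hu
    rw [inv_inv] at this
    exact U.mul_mem this (U.inv_mem hu)
  haveI := finite_of_le (hRT.trans h.tS)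
  refine ⟨Subgroup.mem_normalizer_fintype fun x hx => ?_, key u hu⟩
  have := R.mul_mem hx (hWR (key u hu x hx))
  rwa [mul_inv_cancel_left] at this

omit [Finite S] [Fact p.Prime] in
theorem exists_mul_of_mem_supC {R : Subgroup Ω} {x : Ω} (hx : x ∈ R ⊔ centralizerIn S R) :
    ∃ r ∈ R, ∃ c ∈ centralizerIn S R, x = r * c := by
  rw [Subgroup.sup_eq_closure] at hx
  induction hx using Subgroup.closure_induction with
  | mem x hx =>
    rcases hx with hx | hx
    · exact ⟨x, hx, 1, Subgroup.one_mem _, (mul_one x).symm⟩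
    · exact ⟨1, R.one_mem, x, hx, (one_mul x).symm⟩
  | one => exact ⟨1, R.one_mem, 1, Subgroup.one_mem _, (mul_one 1).symm⟩
  | mul a b _ _ ha hb =>
    obtain ⟨r, hr, c, hc, rfl⟩ := ha
    obtain ⟨r', hr', c', hc', rfl⟩ := hb
    refine ⟨r * r', R.mul_mem hr hr', c * c', Subgroup.mul_mem _ hc hc', ?_⟩
    calc r * c * (r' * c') = r * (c * r') * c' := by group
      _ = r * (r' * c) * c' := by rw [Subgroup.mem_centralizer_iff.mp hc.2 r' hr']
      _ = _ := by group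
  | inv a _ ha =>
    obtain ⟨r, hr, c, hc, rfl⟩ := ha
    refine ⟨r⁻¹, R.inv_mem hr, c⁻¹, Subgroup.inv_mem _ hc, ?_⟩
    rw [mul_inv_rev, Subgroup.mem_centralizer_iff.mp (Subgroup.inv_mem _ hc).2 r⁻¹ (R.inv_mem hr)]

theorem iso_closed (hU : F.StronglyClosed U) {M : Subgroup Ω} {θ : Ω → Ω} (hθ : IsMap F M θ)
    (hUM : U ≤ M) : IsIso F U U θ :=
  haveI := finite_of_le hU.1
  isIso_of_mapsTo (hθ.mono hUM) hU.1 (fun _ hx => Fusion92.closed_apply hU hθ (hUM hx) hx) le_rfl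

set_option maxHeartbeats 1000000 in
/-- The case of a fully normalized centric subgroup. -/
theorem fix_core (h : NData F E p) (hU : F.StronglyClosed U) {R : Subgroup Ω}
    (hRn : F.IsFullyNormalized R) (hRT : R ≤ T) (hc : centralizerIn T R ≤ R) (hWR : U ⊓ T ≤ R)
    {α : MulAut R} (hα : α ∈ E.autGroup R) (ho : (orderOf α).Coprime p)
    (hfix : ∀ w ∈ U ⊓ T, autFun α w = w) : ExtendsFix F U R (autFun α) := by
  haveI := h.finiteT
  set D := R ⊔ centralizerIn S R with hD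
  have hDS : D ≤ S := sup_le hRn.1 (Fusion.centralizerIn_le _ _)
  have hDN : D ≤ normalizerIn S R := Inter.supC_le hRn.1
  haveI := finite_of_le hDS
  haveI := finite_mulAut D
  obtain ⟨γ₀, hγ₀, hγ₀e, hγ₀c⟩ := h.exists_lift hRn hRT hc α hα
  obtain ⟨m, hm, hme⟩ := exists_pow_coprime (p := p) (⟨γ₀, hγ₀⟩ : F.autGroup D) α ho
  set γ : MulAut D := γ₀ ^ m with hγdef
  have hγ : γ ∈ F.autGroup D := Subgroup.pow_mem _ hγ₀ m
  have hγi := (mem_autGroup hDS).mp hγ
  have hγo : (orderOf γ).Coprime p := by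
    rw [show γ = (((⟨γ₀, hγ₀⟩ : F.autGroup D) ^ m : F.autGroup D) : MulAut D) from rfl,
      Subgroup.orderOf_coe]
    exact hm
  have hγR : ∀ x ∈ R, autFun γ x = autFun α x := fun x hx => by
    rw [hγdef, pow_restrict le_sup_left hγ₀e m x hx, hme]
  have hγmod : ∀ x ∈ D, x⁻¹ * autFun γ x ∈ R := Inter.mod_pow (Inter.mod_sup
    (inf_le_right.trans (Subgroup.centralizer_le_normalizer _)) ((mem_autGroup hDS).mp hγ₀).1
    (fun x hx => hγ₀e hx ▸ Inter.autFun_mem_self α hx) hγ₀c) m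
  have hγW : ∀ w ∈ U ⊓ T, autFun γ w = w := fun w hw => by rw [hγR w (hWR hw), hfix w hw]
  have hαR : autFun γ '' (R : Set Ω) = (R : Set Ω) := (Set.image_congr hγR).trans (autFun_image α)
  -- `U` acts on `D`
  have hUn : ∀ u ∈ U, u ∈ normalizerIn S R := fun u hu =>
    ⟨hU.1 hu, (mem_normalizer_of_le h hU hWR hRT hu).1⟩
  -- `R` is the part of `D` in `T`
  have hDT : ∀ x ∈ D, x ∈ T → x ∈ R := by
    intro x hxD hxT
    obtain ⟨r, hr, c, hc', rfl⟩ := exists_mul_of_mem_supC hxD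
    exact R.mul_mem hr (hc ⟨by simpa using T.mul_mem (T.inv_mem (hRT hr)) hxT, hc'.2⟩)
  have hsc : F.IsFullyCentralized R := h.centralized hRn
  have hNT := stronglyClosed_iff.mp hU
  -- the action of `U` is transported
  have hext : IsExtendable S D (autFun γ) U := by
    refine ⟨hU.1, fun u hu => ⟨Inter.normalizer_supC (hUn u hu), ?_⟩⟩
    have huD : u ∈ normalizerIn S D := ⟨hU.1 hu, Inter.normalizer_supC (hUn u hu)⟩
    set cu : MulAut D := conjAutHom S D ⟨u, huD⟩ with hcu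
    have hcuF : cu ∈ F.autGroup D := autInducedBy_le_autGroup hDS (by
      rw [← range_conjAutHom]; exact ⟨_, rfl⟩)
    set δ : MulAut D := γ * cu * γ⁻¹ * cu⁻¹ with hδ
    have hδF : δ ∈ F.autGroup D := Subgroup.mul_mem _ (Subgroup.mul_mem _ (Subgroup.mul_mem _ hγ hcuF)
      (Subgroup.inv_mem _ hγ)) (Subgroup.inv_mem _ hcuF)
    have hval : ∀ x : D, (((x⁻¹ * δ x : D)) : Ω) =
        (u * autFun γ ((γ⁻¹ (cu⁻¹ x) : D) : Ω) * u⁻¹)⁻¹ *
          autFun γ (u * ((γ⁻¹ (cu⁻¹ x) : D) : Ω) * u⁻¹) := by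
      intro x
      have e1 : δ x = γ (cu (γ⁻¹ (cu⁻¹ x))) := rfl
      have e2 : x = cu (γ (γ⁻¹ (cu⁻¹ x))) := by
        rw [show γ (γ⁻¹ (cu⁻¹ x)) = cu⁻¹ x from γ.apply_symm_apply _]
        exact (cu.apply_symm_apply x).symm
      rw [Subgroup.coe_mul, Subgroup.coe_inv, e1, ← autFun_coe γ]
      conv_lhs => arg 1; rw [e2]
      rw [autFun_coe γ (γ⁻¹ (cu⁻¹ x))]
      rfl
    have hback : ∀ (X : Subgroup Ω), X ≤ D → (∀ y ∈ X, u⁻¹ * y * u ∈ X) →
        autFun γ '' (X : Set Ω) = (X : Set Ω) → ∀ x : D, (x : Ω) ∈ X →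
        ((γ⁻¹ (cu⁻¹ x) : D) : Ω) ∈ X := by
      intro X hX hcX hγX x hx
      have h1 : ((cu⁻¹ x : D) : Ω) ∈ X := by
        have h2 : ((cu⁻¹ x : D) : Ω) = u⁻¹ * x * u := by
          have h3 : u * ((cu⁻¹ x : D) : Ω) * u⁻¹ = x :=
            congrArg Subtype.val (cu.apply_symm_apply x)
          calc ((cu⁻¹ x : D) : Ω) = u⁻¹ * (u * (cu⁻¹ x : D) * u⁻¹) * u := by group
            _ = _ := by rw [h3]
        rw [h2]; exact hcX _ hx
      obtain ⟨y, hy, hye⟩ := (Set.ext_iff.mp hγX _).mpr h1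
      have : γ⁻¹ (cu⁻¹ x) = ⟨y, hX hy⟩ := γ.injective (by
        rw [show γ (γ⁻¹ (cu⁻¹ x)) = cu⁻¹ x from γ.apply_symm_apply _]
        exact Subtype.ext (by rw [← autFun_coe γ, hye]))
      rw [this]; exact hy
    have hconjW : ∀ v ∈ U, ∀ y ∈ U ⊓ T, v * y * v⁻¹ ∈ U ⊓ T := fun v hv y hy =>
      ⟨U.mul_mem (U.mul_mem hv hy.1) (U.inv_mem hv), h.conj_t (hU.1 hv) hy.2⟩
    have hWD : U ⊓ T ≤ D := hWR.trans le_sup_left
    have hγWim : autFun γ '' ((U ⊓ T : Subgroup Ω) : Set Ω) = ((U ⊓ T : Subgroup Ω) : Set Ω) :=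
      (Set.image_congr hγW).trans (Set.image_id' _)
    have hmem : δ ∈ stab D R (U ⊓ T) hWR ⊓ F.autGroup D := by
      refine ⟨⟨fun x hx => ?_, fun x hx => ?_, fun x => ?_⟩, hδF⟩
      · have hy := hback _ hWD (fun y hy => by simpa using hconjW u⁻¹ (U.inv_mem hu) y hy) hγWim x hx
        have h1 := hval x
        rw [hγW _ hy, hγW _ (hconjW u hu _ hy), inv_mul_cancel, Subgroup.coe_mul,
          Subgroup.coe_inv, inv_mul_eq_one] at h1
        exact Subtype.ext h1.symm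
      · rw [hval]
        have hy := hback R le_sup_left (fun y hy => by
          simpa using conj_mem_of_mem_normalizer (Subgroup.inv_mem _ (hUn u hu).2) hy) hαR x hx
        generalize ((γ⁻¹ (cu⁻¹ x) : D) : Ω) = y at hy ⊢
        have h1 := (mem_normalizer_of_le h hU hWR hRT hu).2 y hy
        have hgy : autFun γ y ∈ R := by rw [← SetLike.mem_coe, ← hαR]; exact ⟨y, hy, rfl⟩
        have h2 := (mem_normalizer_of_le h hU hWR hRT hu).2 _ hgy
        have h3 : autFun γ (u * y * u⁻¹) = autFun γ y * (y⁻¹ * (u * y * u⁻¹)) := by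
          have he : u * y * u⁻¹ = y * (y⁻¹ * (u * y * u⁻¹)) := by group
          conv_lhs => rw [he]
          rw [hγi.1.map_mul (Subgroup.mem_sup_left hy) (Subgroup.mem_sup_left (hWR h1)), hγW _ h1]
        rw [h3]
        have := (U ⊓ T).mul_mem ((U ⊓ T).inv_mem h2) h1
        convert this using 1
        group
      · rw [hval]
        have hy := (γ⁻¹ (cu⁻¹ x)).2
        generalize ((γ⁻¹ (cu⁻¹ x) : D) : Ω) = y at hy ⊢
        have h1 := hγmod y hy
        have hyu := conj_mem_of_mem_normalizer huD.2 hy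
        have h2 := hγmod _ hyu
        have := R.mul_mem (R.inv_mem (conj_mem_of_mem_normalizer (hUn u hu).2 h1)) h2
        convert this using 1
        group
    set N := normalizerSystem F R hRn.1 with hN
    have hNp := h.pgroup.to_le (Fusion.normalizerIn_le S R)
    haveI := finite_of_le (Fusion.normalizerIn_le S R)
    have hNsat := normalizerSystem_isSaturated h.pgroup h.sat hRn
    have hN' : ∀ b ∈ N.autGroup D, b ∈ F.autGroup D ∧ ∀ x : D, (x : Ω) ∈ R → ((b x : D) : Ω) ∈ R :=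
      fun b hb => by
        obtain ⟨hbF, hbR⟩ := (Inter.mem_stabAut hRn.1 le_sup_left hDN).mp hb
        refine ⟨hbF, fun x hx => ?_⟩
        rw [← autFun_coe b x, ← SetLike.mem_coe, ← hbR]
        exact ⟨x, hx, rfl⟩
    have hδN : δ ∈ N.autGroup D := by
      refine (Inter.mem_stabAut hRn.1 le_sup_left hDN).mpr ⟨hδF, ?_⟩
      have hδR : ∀ x ∈ R, autFun δ x ∈ R := fun x hx => by
        have hxD : x ∈ D := Subgroup.mem_sup_left hx
        have := hWR (hmem.1.2.1 ⟨x, hxD⟩ hx)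
        rw [Subgroup.coe_mul, Subgroup.coe_inv, ← autFun_coe δ ⟨x, hxD⟩] at this
        have := R.mul_mem hx this
        rwa [mul_inv_cancel_left] at this
      haveI := finite_of_le hRn.1
      exact (isIso_of_mapsTo (((mem_autGroup hDS).mp hδF).1.mono le_sup_left) hRn.1 hδR le_rfl).2
    have hn : ((stab D R (U ⊓ T) hWR ⊓ N.autGroup D).subgroupOf (N.autGroup D)).Normal := by
      rw [Subgroup.inf_subgroupOf_right]
      refine stab_normal hWR _ (fun b hb => (hN' b hb).2) fun b hb x hx => ?_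
      refine ⟨?_, ?_⟩ <;> rw [← autFun_coe b x]
      · exact Fusion92.closed_apply hU ((mem_autGroup hDS).mp (hN' b hb).1).1 x.2 hx.1
      · exact Fusion92.closed_apply h.closed ((mem_autGroup hDS).mp (hN' b hb).1).1 x.2 hx.2
    obtain ⟨s, hs, hse⟩ := mem_autInducedBy.mp (Inter.pNormal_induced hNp hNsat
      (Inter.fullyNormalized_of_normalized (F := N) hDN fun g hg => Inter.normalizer_supC hg)
      (stab D R (U ⊓ T) hWR ⊓ N.autGroup D) inf_le_right
      ((stab_isPGroup hWR (h.pgroup.to_le hDS)).to_le inf_le_left) hn ⟨hmem.1, hδN⟩)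
    refine ⟨s * u, S.mul_mem hs.1 (hU.1 hu), fun x hx => ?_⟩
    have hyD : autFun γ x ∈ D := hγi.mem hx
    have hz : u * autFun γ x * u⁻¹ ∈ D := conj_mem_of_mem_normalizer huD.2 hyD
    have h1 := hse ⟨_, hz⟩
    have e1 : cu⁻¹ ⟨u * autFun γ x * u⁻¹, hz⟩ = ⟨autFun γ x, hyD⟩ := cu.injective (by
      rw [show cu (cu⁻¹ _) = _ from cu.apply_symm_apply _]; exact Subtype.ext rfl)
    have e2 : γ⁻¹ ⟨autFun γ x, hyD⟩ = ⟨x, hx⟩ := γ.injective (by
      rw [show γ (γ⁻¹ _) = _ from γ.apply_symm_apply _]; exact Subtype.ext (autFun_of_mem γ hx))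
    have e3 : δ ⟨u * autFun γ x * u⁻¹, hz⟩ = γ (cu ⟨x, hx⟩) := by
      rw [hδ, MulAut.mul_apply, MulAut.mul_apply, MulAut.mul_apply, e1, e2]
    rw [e3] at h1
    rw [show autFun γ (u * x * u⁻¹) = (γ (cu ⟨x, hx⟩) : Ω) from autFun_coe γ (cu ⟨x, hx⟩), h1]
    group
  obtain ⟨f, hf, hfe⟩ := receptive_extend (Inter.receptive_supC h.pgroup h.sat hsc) hγi hext
  set M := D ⊔ U with hM
  have hMS : M ≤ S := sup_le hDS hU.1
  haveI := finite_of_le hMS
  haveI := finite_mulAut M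
  have hfM : IsIso F M M f := isIso_of_mapsTo hf hMS (isMap_mem_sup hf le_sup_left le_sup_right
    (fun x hx => Subgroup.mem_sup_left (hfe hx ▸ hγi.mem hx))
    fun x hx => Subgroup.mem_sup_right (Fusion92.closed_apply hU hf (Subgroup.mem_sup_right hx) hx)) le_rfl
  obtain ⟨β, hβ, hβe⟩ := hfM.exists_aut
  obtain ⟨e, he, hee⟩ := exists_pow_coprime (p := p) β γ hγo
  set φ := autFun (β ^ e) with hφ
  have hφi : IsIso F M M φ := (mem_autGroup hMS).mp (Subgroup.pow_mem _ hβ e)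
  have hφD : ∀ x ∈ D, φ x = autFun γ x := fun x hx => by
    rw [hφ, pow_restrict le_sup_left (fun y hy => (hβe (Subgroup.mem_sup_left hy)).trans (hfe hy)) e x hx,
      hee]
  have hcop : Inter.Cop p M φ := Inter.cop_of_pow he le_rfl
  have hT := Inter.mod_single h hRn hRT (M := M) le_sup_left
    (sup_le hDN hUn) hφi ((Set.image_congr fun x hx => hφD x (Subgroup.mem_sup_left hx)).trans hαR)
    (fun x hx => by rw [hφD x hx]; exact hγmod x hx)
    (((mem_autGroup hRT).mp hα).1.mono (sup_le le_rfl hc) |>.congr fun x hx => by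
      have hxR : x ∈ R := (sup_le le_rfl hc : R ⊔ centralizerIn T R ≤ R) hx
      rw [hφD x (Subgroup.mem_sup_left hxR), hγR x hxR]) hcop
  refine ⟨φ, hφi.1.mono (sup_le_sup_right le_sup_left U), fun x hx => ?_, fun u hu => ?_⟩
  · rw [hφD x (Subgroup.mem_sup_left hx), hγR x hx]
  · have huM : u ∈ M := Subgroup.mem_sup_right hu
    have hw : u⁻¹ * φ u ∈ U ⊓ T :=
      ⟨U.mul_mem (U.inv_mem hu) (Fusion92.closed_apply hU hφi.1 huM hu), hT u huM⟩
    exact fix_of_cop h.pgroup hφi.1 (fun y hy => hφi.mem hy) hcop huM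
      (by rw [hφD _ (Subgroup.mem_sup_left (hWR hw)), hγW _ hw])

set_option maxHeartbeats 1000000 in
/-- A coprime automorphism fixing `U ∩ T` extends fixing `U`. -/
theorem fix_closed (h : NData F E p) (hU : F.StronglyClosed U) {V : Subgroup Ω} (hV : V ≤ T)
    {a : MulAut V} (ha : ExtendsFix E (U ⊓ T) V (autFun a)) (ho : (orderOf a).Coprime p) :
    ExtendsFix F U V (autFun a) := by
  haveI := h.finiteT
  have hVS := hV.trans h.tS
  obtain ⟨e, he, hee, heW⟩ := ha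
  set V₁ := V ⊔ (U ⊓ T) with hV₁
  have hV₁T : V₁ ≤ T := sup_le hV inf_le_right
  haveI := finite_of_le hV₁T
  haveI := finite_mulAut V₁
  -- an automorphism of `V₁` of order prime to `p`
  have he₁ : IsIso E V₁ V₁ e := isIso_of_mapsTo he hV₁T (isMap_mem_sup he le_sup_left le_sup_right
    (fun x hx => Subgroup.mem_sup_left (hee hx ▸ Inter.autFun_mem_self a hx))
    fun x hx => Subgroup.mem_sup_right ((heW x hx).symm ▸ hx)) le_rfl
  obtain ⟨b, hb, hbe⟩ := he₁.exists_aut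
  haveI := finite_of_le hV
  haveI := finite_mulAut V
  obtain ⟨m₁, hm₁, hm₁e⟩ := exists_pow_coprime (p := p) (⟨b, hb⟩ : E.autGroup V₁) a ho
  set a₁ : MulAut V₁ := b ^ m₁ with ha₁d
  have ha₁ : a₁ ∈ E.autGroup V₁ := Subgroup.pow_mem _ hb m₁
  have ha₁o : (orderOf a₁).Coprime p := by
    rw [show a₁ = (((⟨b, hb⟩ : E.autGroup V₁) ^ m₁ : E.autGroup V₁) : MulAut V₁) from rfl,
      Subgroup.orderOf_coe]
    exact hm₁
  have ha₁V : Set.EqOn (autFun a₁) (autFun a) V := fun x hx => by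
    rw [ha₁d, pow_restrict le_sup_left (fun y hy => (hbe (Subgroup.mem_sup_left hy)).trans (hee hy))
      m₁ x hx, hm₁e]
  have ha₁W : ∀ w ∈ U ⊓ T, autFun a₁ w = w := fun w hw => by
    have key : ∀ n : ℕ, autFun (b ^ n) w = w := by
      intro n
      induction n with
      | zero => exact autFun_one (Subgroup.mem_sup_right hw)
      | succ n ih =>
        rw [pow_succ, autFun_mul _ _ (Subgroup.mem_sup_right hw), Function.comp_apply,
          hbe (Subgroup.mem_sup_right hw), heW w hw, ih]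
    exact key m₁
  -- to a fully normalized conjugate
  obtain ⟨V₂, hconj, hV₂n⟩ := exists_fullyNormalized (F := F) (hV₁T.trans h.tS)
  obtain ⟨θ, hθ, hθV, hθN, hθT⟩ := h.exists_normT_map hV₂n hconj
  have hUN : ∀ {X : Subgroup Ω}, U ⊓ T ≤ X → X ≤ T → U ≤ normalizerIn S X := fun hWX hXT u hu =>
    ⟨hU.1 hu, (mem_normalizer_of_le h hU hWX hXT hu).1⟩
  have hV₂T : V₂ ≤ T := fun y hy => by
    obtain ⟨x, hx, rfl⟩ := hθV.exists_preimage hy
    exact Fusion92.closed_apply h.closed hθ (le_normalizerIn (hV₁T.trans h.tS) hx) (hV₁T hx)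
  have hθU : IsIso F U U θ := iso_closed hU hθ (hUN le_sup_right hV₁T)
  haveI := finite_of_le (h.tS : T ≤ S)
  have hθW : ∀ w ∈ U ⊓ T, θ w ∈ U ⊓ T := fun w hw =>
    ⟨hθU.mem hw.1, Fusion92.closed_apply h.closed hθ (hUN le_sup_right hV₁T hw.1) hw.2⟩
  have hWV₂ : U ⊓ T ≤ V₂ := fun w hw => by
    haveI : Finite (U ⊓ T : Subgroup Ω) := finite_of_le (inf_le_right : U ⊓ T ≤ T)
    obtain ⟨x, hx, rfl⟩ := (isIso_of_mapsTo ((hθ.mono (hUN le_sup_right hV₁T)).mono inf_le_left)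
      (inf_le_right.trans h.tS) hθW le_rfl).exists_preimage hw
    exact hθV.mem (Subgroup.mem_sup_right hx)
  obtain ⟨θi, hθi, hθl, -⟩ := hθV.exists_inv
  obtain ⟨χ, hχ, hχe⟩ := h.strongInv V₁ V₂ V₁ (autFun a₁) θ le_rfl hV₁T ((mem_autGroup hV₁T).mp ha₁).1
    (fun x hx => Inter.autFun_mem_self _ hx) (hθ.mono (le_normalizerIn (hV₁T.trans h.tS))) hθV
  have hχi : IsIso E V₂ V₂ χ := isIso_of_mapsTo hχ hV₂T (fun y hy => by
    obtain ⟨x, hx, rfl⟩ := hθV.exists_preimage hy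
    rw [hχe x hx]
    exact hθV.mem (Inter.autFun_mem_self _ hx)) le_rfl
  -- extension inside `E` to a centric subgroup
  have hV₂e := h.fullyNormalized_e hV₂n hV₂T
  obtain ⟨g, hg, hge⟩ := receptive_extend (receptive_of_fullyNormalized h.tp h.eSat hV₂e) hχi
    (isExtendable_centralizerIn χ)
  set R := V₂ ⊔ centralizerIn T V₂ with hR
  have hRT : R ≤ T := sup_le hV₂T inf_le_left
  have hgV : g '' (V₂ : Set Ω) = (V₂ : Set Ω) := (Set.image_congr hge).trans hχi.2
  have hgi : IsIso E R R g := isIso_of_mapsTo hg hRT (isMap_mem_sup hg le_sup_left le_sup_right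
    (fun x hx => Subgroup.mem_sup_left (hge hx ▸ hχi.mem hx))
    fun x hx => Subgroup.mem_sup_right
      (map_mem_centralizer hg le_sup_left hgV (Subgroup.mem_sup_right hx) hx.2)) le_rfl
  -- to a fully normalized conjugate again
  obtain ⟨R', hconj', hR'n⟩ := exists_fullyNormalized (F := F) (hRT.trans h.tS)
  obtain ⟨η, hη, hηR, hηN, hηT⟩ := h.exists_normT_map hR'n hconj'
  have hR'T : R' ≤ T := fun y hy => by
    obtain ⟨x, hx, rfl⟩ := hηR.exists_preimage hy
    exact Fusion92.closed_apply h.closed hη (le_normalizerIn (hRT.trans h.tS) hx) (hRT hx)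
  have hWR : U ⊓ T ≤ R := hWV₂.trans le_sup_left
  have hηU : IsIso F U U η := iso_closed hU hη (hUN hWR hRT)
  have hWR' : U ⊓ T ≤ R' := fun w hw => by
    haveI : Finite (U ⊓ T : Subgroup Ω) := finite_of_le (inf_le_right : U ⊓ T ≤ T)
    obtain ⟨x, hx, rfl⟩ := (isIso_of_mapsTo ((hη.mono (hUN hWR hRT)).mono inf_le_left)
      (inf_le_right.trans h.tS) (fun w hw => ⟨hηU.mem hw.1,
        Fusion92.closed_apply h.closed hη (hUN hWR hRT hw.1) hw.2⟩) le_rfl).exists_preimage hw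
    exact hηR.mem (hWR hx)
  obtain ⟨χ', hχ', hχ'e⟩ := h.strongInv R R' R g η le_rfl hRT hg (fun x hx => hgi.mem hx)
    (hη.mono (le_normalizerIn (hRT.trans h.tS))) hηR
  have hχ'i : IsIso E R' R' χ' := isIso_of_mapsTo hχ' hR'T (fun y hy => by
    obtain ⟨x, hx, rfl⟩ := hηR.exists_preimage hy
    rw [hχ'e x hx]
    exact hηR.mem (hgi.mem hx)) le_rfl
  have hc : centralizerIn T R' ≤ R' := by
    -- `R'` contains the centralizer of the image of `V₂`
    have hV₂R : V₂ ≤ normalizerIn S R := (le_normalizerIn (hRT.trans h.tS)).trans' le_sup_left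
    obtain ⟨V₃, hV₃⟩ := (hη.mono hV₂R).exists_image
    obtain ⟨η', hη', hη'V, -, hη'T⟩ := h.exists_normT_map hV₂n (isConj_symm hV₃.isConj)
    haveI := finite_of_le (Fusion.centralizerIn_le T V₂)
    haveI := finite_of_le (Fusion.centralizerIn_le T V₃)
    have hle : centralizerIn T V₂ ≤ R := le_sup_right
    have hmem : ∀ x ∈ centralizerIn T V₂, η x ∈ centralizerIn T V₃ := fun x hx =>
      ⟨Fusion92.closed_apply h.closed hη (le_normalizerIn (hRT.trans h.tS) (hle hx)) hx.1,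
        (map_mem_centralizer hη hV₂R hV₃.2 (le_normalizerIn (hRT.trans h.tS) (hle hx)) hx.2).2⟩
    have hcard : Nat.card (centralizerIn T V₃) ≤ Nat.card (centralizerIn T V₂) := by
      refine card_le_of_injOn (inf_le_left.trans h.tS) (hη'.injOn.mono fun x hx =>
        (⟨h.tS hx.1, Subgroup.centralizer_le_normalizer _ hx.2⟩ : x ∈ normalizerIn S V₃)) fun x hx => ?_
      have hxN : x ∈ normalizerIn S V₃ := ⟨h.tS hx.1, Subgroup.centralizer_le_normalizer _ hx.2⟩
      exact ⟨Fusion92.closed_apply h.closed hη' hxN hx.1,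
        (map_mem_centralizer hη' (le_normalizerIn hV₃.cod_le) hη'V.2 hxN hx.2).2⟩
    intro x hx
    have hxV : x ∈ centralizerIn T V₃ := ⟨hx.1, Subgroup.centralizer_le (fun y hy => by
      obtain ⟨z, hz, rfl⟩ := hV₃.exists_preimage hy
      exact hηR.mem (Subgroup.mem_sup_left hz)) hx.2⟩
    obtain ⟨y, hy, rfl⟩ := surjOn_of_card_le (inf_le_left.trans h.tS)
      (hη.injOn.mono fun y hy => le_normalizerIn (hRT.trans h.tS) (hle hy)) hmem hcard x hxV
    exact hηR.mem (hle hy)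
  -- the automorphism of `R'`
  haveI := finite_of_le hR'T
  haveI := finite_mulAut R'
  obtain ⟨c, hcE, hce⟩ := hχ'i.exists_aut
  have hsq : ∀ x ∈ V₁, η (θ (autFun a₁ x)) = autFun c (η (θ x)) := fun x hx => by
    have hy : θ x ∈ V₂ := hθV.mem hx
    rw [hce (hηR.mem (Subgroup.mem_sup_left hy)), hχ'e _ (Subgroup.mem_sup_left hy), hge hy, hχe x hx]
  obtain ⟨m, hm, hme⟩ := exists_pow_coprime (p := p) (⟨c, hcE⟩ : E.autGroup R') a₁ ha₁o
  have hsq' : ∀ n : ℕ, ∀ x ∈ V₁, η (θ (autFun (a₁ ^ n) x)) = autFun (c ^ n) (η (θ x)) := by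
    intro n
    induction n with
    | zero =>
      intro x hx
      rw [pow_zero, pow_zero, autFun_one hx, autFun_one (hηR.mem (Subgroup.mem_sup_left (hθV.mem hx)))]
      rfl
    | succ n ih =>
      intro x hx
      rw [pow_succ, pow_succ, autFun_mul _ _ hx, autFun_mul _ _ (hηR.mem (Subgroup.mem_sup_left (hθV.mem hx))),
        Function.comp_apply, Function.comp_apply, ih _ (Inter.autFun_mem_self _ hx), hsq x hx]
  have hθW' : ∀ w ∈ U ⊓ T, ∃ w' ∈ U ⊓ T, η (θ w') = w := fun w hw => by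
    haveI : Finite (U ⊓ T : Subgroup Ω) := finite_of_le (inf_le_right : U ⊓ T ≤ T)
    obtain ⟨y, hy, rfl⟩ := (isIso_of_mapsTo ((hη.mono (hUN hWR hRT)).mono inf_le_left)
      (inf_le_right.trans h.tS) (fun w hw => ⟨hηU.mem hw.1,
        Fusion92.closed_apply h.closed hη (hUN hWR hRT hw.1) hw.2⟩) le_rfl).exists_preimage hw
    obtain ⟨x, hx, rfl⟩ := (isIso_of_mapsTo ((hθ.mono (hUN le_sup_right hV₁T)).mono inf_le_left)
      (inf_le_right.trans h.tS) hθW le_rfl).exists_preimage hy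
    exact ⟨x, hx, rfl⟩
  have ho' : (orderOf (c ^ m)).Coprime p := by
    rw [show c ^ m = (((⟨c, hcE⟩ : E.autGroup R') ^ m : E.autGroup R') : MulAut R') from rfl,
      Subgroup.orderOf_coe]
    exact hm
  obtain ⟨ψ, hψ, hψe, hψU⟩ := fix_core h hU hR'n hR'T hc hWR' (Subgroup.pow_mem _ hcE m) ho'
    fun w hw => by
      obtain ⟨w', hw', rfl⟩ := hθW' w hw
      rw [← hsq' m w' (Subgroup.mem_sup_right hw'), hme, ha₁W w' hw']
  -- back to `V`
  have hVU : V ⊔ U ≤ normalizerIn S V₁ :=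
    sup_le (le_sup_left.trans (le_normalizerIn (hV₁T.trans h.tS))) (hUN le_sup_right hV₁T)
  have hθmem : ∀ x ∈ V ⊔ U, θ x ∈ V₂ ⊔ U := isMap_mem_sup hθ (le_sup_left.trans hVU)
    (le_sup_right.trans hVU) (fun x hx => Subgroup.mem_sup_left (hθV.mem (Subgroup.mem_sup_left hx)))
    fun x hx => Subgroup.mem_sup_right (hθU.mem hx)
  have hV₂U : V₂ ⊔ U ≤ normalizerIn S R :=
    sup_le ((le_normalizerIn (hRT.trans h.tS)).trans' le_sup_left) (hUN hWR hRT)
  have hΘ : IsMap F (V ⊔ U) (η ∘ θ) := (hθ.mono hVU).comp hη fun x hx => hV₂U (hθmem x hx)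
  obtain ⟨Y, hY⟩ := hΘ.exists_image
  obtain ⟨Θi, hΘi, hΘl, -⟩ := hY.exists_inv
  have hYR : Y ≤ R' ⊔ U := fun y hy => by
    obtain ⟨x, hx, rfl⟩ := hY.exists_preimage hy
    exact isMap_mem_sup hΘ le_sup_left le_sup_right
      (fun x hx => Subgroup.mem_sup_left (hηR.mem (Subgroup.mem_sup_left (hθV.mem (Subgroup.mem_sup_left hx)))))
      (fun x hx => Subgroup.mem_sup_right (hηU.mem (hθU.mem hx))) x hx
  have hψV : ∀ x ∈ V, ψ ((η ∘ θ) x) = (η ∘ θ) (autFun a x) := fun x hx => by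
    simp only [Function.comp_apply]
    rw [hψe (hηR.mem (Subgroup.mem_sup_left (hθV.mem (Subgroup.mem_sup_left hx)))),
      ← hsq' m x (Subgroup.mem_sup_left hx), hme, ha₁V hx]
  have hψY : ∀ y ∈ Y, ψ y ∈ Y := fun y hy => by
    obtain ⟨x, hx, rfl⟩ := hY.exists_preimage hy
    refine isMap_mem_sup (hΘ.comp hψ fun x hx => hYR (hY.mem hx)) le_sup_left le_sup_right
      (fun x hx => ?_) (fun x hx => ?_) x hx
    · rw [Function.comp_apply, hψV x hx]
      exact hY.mem (Subgroup.mem_sup_left (Inter.autFun_mem_self a hx))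
    · rw [Function.comp_apply, hψU _ (show (η ∘ θ) x ∈ U from hηU.mem (hθU.mem hx))]
      exact hY.mem (Subgroup.mem_sup_right hx)
  refine ⟨Θi ∘ ψ ∘ (η ∘ θ), (hY.1.comp (hψ.mono hYR) fun x hx => hY.mem hx).comp hΘi.1
    fun x hx => hψY _ (hY.mem hx), fun x hx => ?_, fun u hu => ?_⟩
  · show Θi (ψ ((η ∘ θ) x)) = autFun a x
    rw [hψV x hx, hΘl _ (Subgroup.mem_sup_left (Inter.autFun_mem_self a hx))]
  · show Θi (ψ ((η ∘ θ) u)) = u
    rw [hψU _ (show (η ∘ θ) u ∈ U from hηU.mem (hθU.mem hu)), hΘl _ (Subgroup.mem_sup_right hu)]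

end Cfsg.Agent.Fusion.Comp
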