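import Cfsg.Agent.Lib.Fusion.Comp.Product
import Cfsg.Agent.Lib.Fusion.Comp.CharNormal
import Cfsg.Agent.Lib.Fusion.Comp.Factor
import Cfsg.Agent.Lib.Fusion.Inter.Fitting
import Cfsg.Agent.S5311
import Cfsg.Agent.S5155
import Cfsg.Agent.S5141

/-!
# The components are normal in the layer
-/

set_option autoImplicit false
set_option linter.style.haveILetI false

namespace Cfsg.Agent.Fusion.Comp

open Cfsg Cfsg.Agent.Fusion Cfsg.Agent.Fusion.NormalLift Cfsg.Agent.Fusion.Fitting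
open Cfsg.FusionSystem (normalizerIn centralizerIn)

universe u

variable {Ω : Type u} [Group Ω] {p : ℕ} [Fact p.Prime]

theorem fiso_of_invariant {S U : Subgroup Ω} {F : FusionSystem S} {D : FusionSystem U}
    (hD : D.IsInvariantIn F) {k ki : Ω → Ω} (hk : IsIso F U U k) (hki : IsIso F U U ki)
    (hl : ∀ x ∈ U, ki (k x) = x) (hr : ∀ y ∈ U, k (ki y) = y) : Fus93.FIso D D k ki where
  map_mul _ hx _ hy := hk.1.map_mul hx hy
  mem _ hx := hk.mem hx
  mem' _ hy := hki.mem hy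
  left := hl
  right := hr
  push P f hf P' hP' := by
    obtain ⟨g, hg, hge⟩ := invariant_inv hD hf hk hP'
    refine hg.congr fun y hy => ?_
    obtain ⟨x, hx, rfl⟩ := (Set.ext_iff.mp hP' y).mp hy
    rw [hge x hx, Function.comp_apply, Function.comp_apply, hl x (hf.dom_le hx)]
  pull P' f hf P hP := by
    obtain ⟨g, hg, hge⟩ := invariant_inv hD hf hki hP
    refine hg.congr fun y hy => ?_
    obtain ⟨x, hx, rfl⟩ := (Set.ext_iff.mp hP y).mp hy
    rw [hge x hx, Function.comp_apply, Function.comp_apply, hr x (hf.dom_le hx)]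

/-- The layer of a normal subsystem is normal. -/
theorem layer_normal {S U V : Subgroup Ω} [Finite S] {F : FusionSystem S} {D : FusionSystem U}
    {L : FusionSystem V} (n : NData F D p) (hL : L.IsLayerOf D p) : L.IsNormalIn F p := by
  haveI := n.finiteT
  have d : NData D L p := ⟨n.tp, n.eSat, hL.1⟩
  refine char_normal n d fun k hk => ?_
  obtain ⟨ki, hki, hkl, hkr⟩ := hk.exists_inv
  have h := fiso_of_invariant n.invariant hk hki hkl hkr
  have hVU : V ≤ U := d.tS
  have key : ∀ P f, IsMap L P f → IsMap L (Fus93.img k P) (k ∘ f ∘ ki) := fun P f hf =>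
    ((h.symm.isMap_pushSys.mp (hf.of_isSubsystemOf (S5311.layer_le n.tp h.symm hL))).2.2)
  refine ⟨fun x hx => ?_, fun P f hf P' hP' => ?_⟩
  · exact (key V id (isMap_id le_rfl)).dom_le (h.apply_mem_img hx)
  · obtain rfl : P' = Fus93.img k P :=
      SetLike.coe_injective (hP'.trans (h.coe_img (hf.dom_le.trans hVU)).symm)
    exact ⟨_, key P f hf, fun x hx => h.apply_map (hf.dom_le.trans hVU) f hx⟩

omit [Fact p.Prime] in
/-- A normal subsystem is smaller or everything. -/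
theorem size_cases {S T : Subgroup Ω} [Finite S] {F : FusionSystem S} {E : FusionSystem T}
    (hE : E.IsNormalIn F p) :
    Nat.card T < Nat.card S ∨ (Nat.card T = Nat.card S ∧ numMaps E < numMaps F) ∨
      (T = S ∧ ∀ P, F.Hom P ⊆ E.Hom P) := by
  have hTS : T ≤ S := hE.1.2.2.2.1.1
  rcases (Subgroup.card_le_of_le hTS).lt_or_eq with hlt | heq
  · exact Or.inl hlt
  obtain rfl : T = S := Subgroup.eq_of_le_of_card_ge hTS heq.ge
  by_cases hall : ∀ P, F.Hom P ⊆ E.Hom P
  · exact Or.inr (Or.inr ⟨rfl, hall⟩)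
  push Not at hall
  obtain ⟨P, hP⟩ := hall
  exact Or.inr (Or.inl ⟨rfl, numMaps_lt hE.1.2.2.1 (P := P) fun he => hP he.ge⟩)

/-- The measure of a system. -/
noncomputable def size {S : Subgroup Ω} (F : FusionSystem S) : ℕ ×ₗ ℕ :=
  toLex (Nat.card S, numMaps F)

omit [Fact p.Prime] in
theorem size_cases' {S T : Subgroup Ω} [Finite S] {F : FusionSystem S} {E : FusionSystem T}
    (hE : E.IsNormalIn F p) : size E < size F ∨ (T = S ∧ ∀ P, F.Hom P ⊆ E.Hom P) := by
  rcases size_cases hE with h | h | h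
  · exact Or.inl (Prod.Lex.toLex_lt_toLex.mpr (Or.inl h))
  · exact Or.inl (Prod.Lex.toLex_lt_toLex.mpr (Or.inr h))
  · exact Or.inr h

omit [Fact p.Prime] in
/-- A subnormal subsystem is everything or subnormal in a smaller normal subsystem. -/
theorem exists_proper {T S : Subgroup Ω} {C : FusionSystem T} {F : FusionSystem S}
    (h : C.IsSubnormalIn F p) : Finite S →
    (T = S ∧ ∀ P, F.Hom P ⊆ C.Hom P) ∨
      ∃ (U : Subgroup Ω) (D : FusionSystem U), D.IsNormalIn F p ∧ size D < size F ∧ C.IsSubnormalIn D p := by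
  induction h with
  | refl F' p => exact fun _ => Or.inl ⟨rfl, fun _ => Set.Subset.rfl⟩
  | @step S' S C' D F' p hCD hD ih =>
    intro hfin
    haveI := hfin
    rcases size_cases' hD with hlt | ⟨rfl, hall⟩
    · exact Or.inr ⟨_, D, hD, hlt, hCD⟩
    · obtain rfl : D = F' := fusion_ext fun P => Set.Subset.antisymm (hD.1.2.2.1 P) (hall P)
      exact ih hfin

/-- The product of two normal subsystems centralizing each other exists. -/
theorem exists_product {S T₁ T₂ : Subgroup Ω} [Finite S] {F : FusionSystem S} {E₁ : FusionSystem T₁}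
    {E₂ : FusionSystem T₂} (n₁ : NData F E₁ p) (n₂ : NData F E₂ p)
    (hcomm : ∀ a ∈ T₁, ∀ b ∈ T₂, a * b = b * a)
    (hext₁ : ∀ P f, IsMap E₁ P f → ExtendsFix F T₂ P f)
    (hext₂ : ∀ P f, IsMap E₂ P f → ExtendsFix F T₁ P f) :
    ∃ (U : Subgroup Ω) (D : FusionSystem U) (D₀ : FusionSystem (T₁.prod T₂)) (θ : ↥(T₁.prod T₂) →* Ω),
      PData F E₁ E₂ D p D₀ θ ∧ FusionSystem.IsCentralProductOf E₁ E₂ D := by
  haveI := n₁.finiteT
  haveI := n₂.finiteT
  obtain ⟨D₀, hD₀⟩ := S5136.result p n₁.tp n₂.tp E₁ E₂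
  let θ : ↥(T₁.prod T₂) →* Ω := MonoidHom.mk' (fun z => (z : Ω × Ω).1 * (z : Ω × Ω).2) fun a b => by
    show (a : Ω × Ω).1 * (b : Ω × Ω).1 * ((a : Ω × Ω).2 * (b : Ω × Ω).2) = _
    rw [mul_assoc, ← mul_assoc (b : Ω × Ω).1, hcomm _ b.2.1 _ a.2.2]
    simp [mul_assoc]
  have hθ : ∀ z : ↥(T₁.prod T₂), θ z = (z : Ω × Ω).1 * (z : Ω × Ω).2 := fun _ => rfl
  set Z := θ.ker.map (T₁.prod T₂).subtype with hZ
  have hZmem : ∀ {z : Ω × Ω}, z ∈ Z → z.1 ∈ T₁ ⊓ T₂ ∧ z.2 = z.1⁻¹ ∧ z ∈ T₁.prod T₂ := by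
    rintro _ ⟨z, hz, rfl⟩
    have h1 : (z : Ω × Ω).1 * (z : Ω × Ω).2 = 1 := hz
    have h2 : (z : Ω × Ω).2 = (z : Ω × Ω).1⁻¹ := eq_inv_of_mul_eq_one_right h1
    refine ⟨⟨z.2.1, ?_⟩, h2, z.2⟩
    have := T₂.inv_mem z.2.2
    rwa [h2, inv_inv] at this
  have hker : ∀ s : ↥(T₁.prod T₂), θ s = 1 ↔ (s : Ω × Ω) ∈ Z := fun s =>
    ⟨fun hs => ⟨s, hs, rfl⟩, fun ⟨z, hz, he⟩ => Subtype.ext he ▸ hz⟩
  have hZc : D₀.IsCentral Z := by
    refine isCentral_iff.2 ⟨fun z hz => (hZmem hz).2.2, fun P f hf => ?_⟩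
    obtain ⟨hle, f₁, f₂, hf₁, hf₂, he⟩ := (Fusion91.isMap_prod_iff hD₀).1 hf
    obtain ⟨e₁, hem₁, hee₁, hefix₁⟩ :=
      Inter.inf_central n₁ hext₁ (fun q hq t ht => (hcomm t ht q hq).symm) hf₁
    obtain ⟨e₂, hem₂, hee₂, hefix₂⟩ := Inter.inf_central n₂ hext₂ hcomm hf₂
    have hle' : P ⊔ Z ≤ T₁.prod T₂ := sup_le hle fun z hz => (hZmem hz).2.2
    refine ⟨fun z => (e₁ z.1, e₂ z.2), (Fusion91.isMap_prod_iff hD₀).2 ⟨hle', e₁, e₂,
      hem₁.mono ?_, hem₂.mono ?_, fun _ _ => rfl⟩, fun z hz => ?_, fun z hz => ?_⟩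
    · rw [Subgroup.map_sup]
      refine sup_le_sup_left ?_ _
      rintro _ ⟨z, hz, rfl⟩
      exact ⟨(hZmem hz).1.2, (hZmem hz).1.1⟩
    · rw [Subgroup.map_sup]
      refine sup_le_sup_left ?_ _
      rintro _ ⟨z, hz, rfl⟩
      obtain ⟨h1, h2, -⟩ := hZmem hz
      exact show z.2 ∈ T₁ ⊓ T₂ from h2.symm ▸ (T₁ ⊓ T₂).inv_mem h1
    · rw [he z hz]
      exact Prod.ext (hee₁ (Fusion91.mem_map_fst hz)) (hee₂ (Fusion91.mem_map_snd hz))
    · obtain ⟨h1, h2, -⟩ := hZmem hz
      refine Prod.ext (hefix₁ _ ⟨h1.2, h1.1⟩) ?_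
      show e₂ z.2 = z.2
      rw [h2]
      exact hefix₂ _ ((T₁ ⊓ T₂).inv_mem h1)
  haveI : Finite ↥(T₁.prod T₂) := Finite.of_equiv _ (T₁.prodEquiv T₂).toEquiv.symm
  have hcl : D₀.StronglyClosed Z := stronglyClosed_iff.2 ⟨hZc.1, fun R f hf x hx hxZ => by
    rw [Inter.map_fix_central hZc hf hx hxZ]
    exact hxZ⟩
  have hfac := Fusion91.factorSys_isFactor D₀ hcl θ hker rfl
  refine ⟨θ.range, Fusion91.factorSys D₀ hcl θ hker rfl, D₀, θ, ⟨n₁, n₂,
    ⟨hD₀, S5134.result p (isPGroup_prod n₁.tp n₂.tp) D₀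
      (Fusion91.isSaturated_prod n₁.tp n₂.tp n₁.eSat n₂.eSat hD₀) Z hcl θ _ hfac,
      fun z hz => by rw [Fusion91.push_of_mem hz]; exact hθ _, hcomm,
      fun a ha => ⟨⟨(a, 1), ha, T₂.one_mem⟩, mul_one a⟩, fun b hb => ⟨⟨(1, b), T₁.one_mem, hb⟩, one_mul b⟩,
      fun z hz he => le_sSup (α := Subgroup (Ω × Ω)) hZc ((hker ⟨z, hz⟩).mp he)⟩, hext₁, hext₂⟩,
    D₀, hD₀, Z, θ, le_sSup hZc, ?_, ?_, fun x hx => mul_one x, fun y hy => one_mul y, hfac⟩
  · rw [Subgroup.eq_bot_iff_forall]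
    rintro z ⟨hz, hz'⟩
    have h2 : z.2 = 1 := hz'.2
    obtain ⟨-, he, -⟩ := hZmem hz
    exact Prod.ext (inv_eq_one.mp (he.symm.trans h2)) h2
  · rw [Subgroup.eq_bot_iff_forall]
    rintro z ⟨hz, hz'⟩
    have h1 : z.1 = 1 := hz'.1
    obtain ⟨-, he, -⟩ := hZmem hz
    exact Prod.ext h1 (by rw [he, h1, inv_one]; rfl)

set_option maxHeartbeats 1000000 in
/-- In a system that is its own layer every component is normal, given the layers of smaller systems. -/
theorem component_normal_of_self {S T : Subgroup Ω} [Finite S] {F : FusionSystem S} {C : FusionSystem T}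
    (hS : IsPGroup p S) (hF : F.IsSaturated p)
    (hmin : ∀ (R : Subgroup Ω) (D : FusionSystem R), D.IsNormalIn F p →
      (∀ (U : Subgroup Ω) (C' : FusionSystem U), C'.IsComponentIn F p → U ≤ R) → F.IsSubsystemOf D)
    (hC : C.IsComponentIn F p)
    (hrec : ∀ (U : Subgroup Ω) (D : FusionSystem U), D.IsNormalIn F p → size D < size F →
      ∀ (V : Subgroup Ω) (L : FusionSystem V), L.IsLayerOf D p → C.IsComponentIn D p → C.IsNormalIn L p) :
    C.IsNormalIn F p := by
  rcases exists_proper hC.1 inferInstance with ⟨rfl, hall⟩ | ⟨U, D, hD, hlt, hCD⟩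
  · obtain rfl : C = F := fusion_ext fun P => Set.Subset.antisymm (Fus19.subnormal_sub hC.1 P) (hall P)
    exact Fusion92.TClass.normal_self hF
  have nD : NData F D p := ⟨hS, hF, hD⟩
  haveI := nD.finiteT
  obtain ⟨V, G, hG⟩ := Inter.exists_layer nD.tp nD.eSat
  have hCG : C.IsNormalIn G p := hrec U D hD hlt V G hG ⟨hCD, hC.2⟩
  have nG : NData F G p := ⟨hS, hF, layer_normal nD hG⟩
  haveI := nG.finiteT
  have d : NData G C p := ⟨nG.tp, nG.eSat, hCG⟩
  refine char_normal nG d fun k hk => ?_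
  -- the centralizer of `G`
  set Y := cE F G with hY
  have hYS : Y ≤ S := cE_le.trans (centralizerIn_le _ _)
  obtain ⟨N, hN, hNc⟩ := S5155.result p hS F hF G nG.normal Y cE_le
    (fun P φ hφ => (mem_centralizerHom fun x => (extFun_coe φ x).symm).mpr
      ⟨(isMap_extFun hφ).of_isSubsystemOf nG.sub,
        ((isMap_extFun hφ).dom_le).trans (Fusion92.CentE.le_cent nG.tS cE_le),
        fun x hx => Fusion92.CentE.le_cent nG.tS cE_le ((isMap_extFun hφ).apply_mem hx),
        nG.extends_all P _ (isMap_extFun hφ)⟩)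
    fun Y' hY' hEY y hy => Subgroup.subset_closure ⟨hY' hy, fun P f hf => by
      obtain ⟨φ, hφ, hφf⟩ := id hf
      exact extendsFix_mono ((mem_centralizerHom hφf).mp (hEY P hφ)).2.2.2 le_rfl
        ((Subgroup.zpowers_le).mpr hy)⟩
  have nN : NData F N p := ⟨hS, hF, hN⟩
  obtain ⟨W, P₀, D₀, θ, hP, -⟩ := exists_product nG nN
    (fun a ha b hb => Subgroup.mem_centralizer_iff.mp (cE_le hb).2 a ha)
    (fun P f hf => nG.extends_all P f hf)
    fun P f hf => by
      obtain ⟨φ, hφ, hφf⟩ := id hf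
      exact ((mem_centralizerHom hφf).mp (hNc P hφ)).2.2.2
  haveI := finite_of_le hP.uS
  obtain ⟨R, hR⟩ := S5140.result p (hS.to_le hP.uS) P₀ hP.dSat
  have hRn := S5141.result p hS F hF P₀ hP.weaklyNormal R hR
  have hFR : F.IsSubsystemOf R := by
    refine hmin W R hRn fun U' C' hC' => ?_
    rcases component_cases hS hF hC' nG.normal with h | ⟨hc, hext⟩
    · exact (Fusion91.le_of_subnormal h.1).trans hP.cp.left
    refine le_trans ?_ hP.cp.right
    have hU'S : U' ≤ S := Fusion91.le_of_subnormal hC'.1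
    have hU'C : U' ≤ centralizerIn S V := fun t ht => ⟨hU'S ht, hc t ht⟩
    refine hC'.2.2.1.ge.trans (le_trans ?_ (Fusion92.CentE.hyperfocal_le_cE nG))
    refine (Subgroup.closure_le _).mpr ?_
    rintro _ ⟨P, α, x, hP', hα, rfl⟩
    have hle : C'.autGroup P ≤ (centralizerSystem F V nG.tS).autGroup P := fun a ha => by
      have hm := ((mem_autGroup hP').mp ha).1
      exact autGroup_mem_of_isMap ((IsCentralizerSystem.isMap_iff
        (isCentralizerSystem_centralizerSystem V nG.tS)).2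
        ⟨hm.of_isSubsystemOf (Fus19.subnormal_sub hC'.1), hP'.trans hU'C,
          fun y hy => hU'C (hm.apply_mem hy), hext P _ hm⟩)
    have hα' : Subgroup.inclusion hle α ∈ pResidual p ((centralizerSystem F V nG.tS).autGroup P) := by
      have h1 : pResidual p (C'.autGroup P) ≤
          (pResidual p ((centralizerSystem F V nG.tS).autGroup P)).comap (Subgroup.inclusion hle) :=
        Transfer.pResidual_le_iff.2 fun a ha => Subgroup.mem_comap.mpr (Subgroup.subset_closure (by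
          show Nat.Coprime (orderOf (Subgroup.inclusion hle a)) p
          rwa [← Subgroup.orderOf_coe, show ((Subgroup.inclusion hle a : _) : MulAut P) = a from rfl,
            Subgroup.orderOf_coe]))
      exact h1 hα
    exact Subgroup.subset_closure ⟨P, _, x, hP'.trans hU'C, hα', rfl⟩
  have hkG : IsMap G V k := hP.cp.map_of_le₁ (((hk.1).of_subset (hFR V)).of_subset (hR.2.1.1 V)) le_rfl
  have hkT : IsIso G T T k := isIso_of_mapsTo (hkG.mono d.tS) d.tS
    (fun x hx => Fusion92.closed_apply d.closed hkG (d.tS hx) hx) le_rfl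
  exact preserves_of_invariant d.invariant hkT

omit [Fact p.Prime] in
/-- The first factor of a central product is a subsystem of it. -/
theorem CPair.sub_left {T₁ T₂ U : Subgroup Ω} [Finite T₁] [Finite T₂] {E₁ : FusionSystem T₁}
    {E₂ : FusionSystem T₂} {D : FusionSystem U} {D₀ : FusionSystem (T₁.prod T₂)}
    {θ : ↥(T₁.prod T₂) →* Ω} (h : CPair E₁ E₂ D D₀ θ) : E₁.IsSubsystemOf D := fun P =>
  hom_subset_of_isMap fun f hf => by
    obtain ⟨g, hg, hge, hfix⟩ := h.fix₁ hf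
    obtain ⟨m, hm, hm₁, -, -⟩ := h.exists_combine hg (isMap_id (inf_le_right : T₁ ⊓ T₂ ≤ T₂))
      le_sup_right le_rfl hfix fun _ _ => rfl
    exact (hm.mono (le_sup_left.trans le_sup_left)).congr fun x hx =>
      (hm₁ (Subgroup.mem_sup_left hx)).trans (hge hx)

/-- Every component is normal in the layer. -/
theorem component_normal_layer {S : Subgroup Ω} [Finite S] {F : FusionSystem S} (hS : IsPGroup p S)
    (hF : F.IsSaturated p) {V : Subgroup Ω} {E : FusionSystem V} (hE : E.IsLayerOf F p)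
    {T : Subgroup Ω} {C : FusionSystem T} (hC : C.IsComponentIn F p) : C.IsNormalIn E p := by
  suffices H : ∀ (s : ℕ ×ₗ ℕ) (S : Subgroup Ω) (_ : Finite S) (F : FusionSystem S), size F = s →
      IsPGroup p S → F.IsSaturated p → ∀ (V : Subgroup Ω) (E : FusionSystem V), E.IsLayerOf F p →
      ∀ (T : Subgroup Ω) (C : FusionSystem T), C.IsComponentIn F p → C.IsNormalIn E p from
    H _ S inferInstance F rfl hS hF V E hE T C hC
  intro s
  induction s using WellFoundedLT.induction with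
  | _ s ih =>
    intro S hfin F hs hS hF V E hE T C hC
    haveI := hfin
    subst hs
    have hrec : ∀ (U : Subgroup Ω) (D : FusionSystem U), D.IsNormalIn F p → size D < size F →
        ∀ (V : Subgroup Ω) (L : FusionSystem V), L.IsLayerOf D p → C.IsComponentIn D p → C.IsNormalIn L p :=
      fun U D hD hlt V L hL hCD =>
        ih _ hlt U (finite_of_le hD.1.2.2.2.1.1) D rfl (hS.to_le hD.1.2.2.2.1.1) hD.1.1 V L hL T C hCD
    have n : NData F E p := ⟨hS, hF, hE.1⟩
    rcases size_cases' hE.1 with hlt | ⟨rfl, hall⟩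
    · haveI := n.finiteT
      have hin : ∀ {U : Subgroup Ω} {C' : FusionSystem U}, C'.IsComponentIn F p → C'.IsComponentIn E p :=
        fun {U C'} h => ⟨subnormal_in_normal h.1 h.2 inferInstance hS E hE.1
          (Inter.le_of_component_sub (hE.2.1 _ _ h)), h.2⟩
      obtain ⟨W, L, hL⟩ := Inter.exists_layer n.tp n.eSat
      have hEL : E.IsSubsystemOf L :=
        hE.2.2 W L (layer_normal n hL) fun U C' h => hL.2.1 U C' (hin h)
      obtain rfl : W = V := le_antisymm hL.1.1.2.2.2.1.1 (Fus19.sys_le hEL)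
      obtain rfl : L = E := fusion_ext fun P => Set.Subset.antisymm (hL.1.1.2.2.1 P) (hEL P)
      exact hrec _ L hE.1 hlt _ L hL (hin hC)
    · obtain rfl : E = F := fusion_ext fun P => Set.Subset.antisymm (hE.1.1.2.2.1 P) (hall P)
      refine component_normal_of_self hS hF (fun R D hD hall' => ?_) hC hrec
      exact hE.2.2 R D hD fun U C' h => Inter.component_sub_of_le hS h hD (hall' U C' h)

end Cfsg.Agent.Fusion.Comp
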