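import Cfsg.Agent.Lib.Fusion.Comp.CentralPair
import Cfsg.Agent.Lib.Fusion.Comp.FixClosed
import Cfsg.Agent.Lib.Fusion.Inter.Main

/-!
# The product of two commuting normal subsystems is weakly normal
-/

set_option autoImplicit false
set_option linter.style.haveILetI false

namespace Cfsg.Agent.Fusion.Comp

open Cfsg Cfsg.Agent.Fusion Cfsg.Agent.Fusion.NormalLift
open Cfsg.FusionSystem (normalizerIn centralizerIn preimageAlong)

variable {Ω : Type*} [Group Ω]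

/-- The automorphisms of `P` fixing `B` and moving every element inside its class modulo `A`. -/
def cross (P A B : Subgroup Ω) : Subgroup (MulAut P) where
  carrier := {a | (∀ x : P, (x : Ω) ∈ B → a x = x) ∧ ∀ x : P, ((x⁻¹ * a x : P) : Ω) ∈ A}
  one_mem' := ⟨fun _ _ => rfl, fun x => by simp⟩
  mul_mem' {a b} ha hb := by
    refine ⟨fun x hx => by rw [MulAut.mul_apply, hb.1 x hx, ha.1 x hx], fun x => ?_⟩
    rw [MulAut.mul_apply, show x⁻¹ * a (b x) = x⁻¹ * b x * ((b x)⁻¹ * a (b x)) by group, Subgroup.coe_mul]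
    exact A.mul_mem (hb.2 x) (ha.2 _)
  inv_mem' {a} ha := by
    refine ⟨fun x hx => a.injective ?_, fun x => ?_⟩
    · rw [show a (a⁻¹ x) = x from a.apply_symm_apply x, ha.1 x hx]
    · have := ha.2 (a⁻¹ x)
      rw [show a (a⁻¹ x) = x from a.apply_symm_apply x] at this
      rw [show x⁻¹ * a⁻¹ x = ((a⁻¹ x)⁻¹ * x)⁻¹ by group, Subgroup.coe_inv]
      exact A.inv_mem this

theorem cross_normal {P A B : Subgroup Ω} (G : Subgroup (MulAut P))
    (hA : ∀ b ∈ G, ∀ x : P, (x : Ω) ∈ A → ((b x : P) : Ω) ∈ A)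
    (hB : ∀ b ∈ G, ∀ x : P, (x : Ω) ∈ B → ((b x : P) : Ω) ∈ B) :
    ((cross P A B).subgroupOf G).Normal := by
  refine ⟨fun a ha b => Subgroup.mem_subgroupOf.mpr ?_⟩
  rw [Subgroup.mem_subgroupOf] at ha
  set g : MulAut P := (b : MulAut P)
  show g * (a : MulAut P) * g⁻¹ ∈ _
  have hg : ∀ x : P, g (g⁻¹ x) = x := fun x => g.apply_symm_apply x
  refine ⟨fun x hx => ?_, fun x => ?_⟩
  · rw [MulAut.mul_apply, MulAut.mul_apply, ha.1 _ (hB _ (G.inv_mem b.2) x hx), hg]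
  · have := hA _ b.2 _ (ha.2 (g⁻¹ x))
    rwa [map_mul, map_inv, hg] at this

theorem conjAutHom_coe {S P : Subgroup Ω} (g : ↥(normalizerIn S P)) (x : P) :
    ((conjAutHom S P g x : P) : Ω) = (g : Ω) * x * (g : Ω)⁻¹ := rfl

/-- Conjugation by an element of `A` centralizing `B` is in `cross P A B`. -/
theorem conjAutHom_mem_cross {S P A B : Subgroup Ω} (hA : S ≤ Subgroup.normalizer (A : Set Ω)) (hP : P ≤ S)
    (g : ↥(normalizerIn S P)) (hgA : (g : Ω) ∈ A) (hgB : ∀ x ∈ B, (g : Ω) * x = x * g) :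
    conjAutHom S P g ∈ cross P (P ⊓ A) (P ⊓ B) := by
  refine ⟨fun x hx => Subtype.ext ?_, fun x => ⟨Subtype.mem _, ?_⟩⟩
  · rw [conjAutHom_coe, hgB _ hx.2, mul_inv_cancel_right]
  · rw [Subgroup.coe_mul, Subgroup.coe_inv, conjAutHom_coe]
    have h1 := conj_mem_of_mem_normalizer (hA (S.inv_mem (hP x.2))) hgA
    rw [show (x : Ω)⁻¹ * ((g : Ω) * x * (g : Ω)⁻¹) = (x : Ω)⁻¹ * (g : Ω) * (x : Ω)⁻¹⁻¹ * (g : Ω)⁻¹ by group]
    exact A.mul_mem h1 (A.inv_mem hgA)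

/-- The inner automorphisms form a normal subgroup of every group of automorphisms. -/
theorem inner_normal {P : Subgroup Ω} (G : Subgroup (MulAut P)) :
    ((MulAut.conj : ↥P →* MulAut P).range.subgroupOf G).Normal := by
  refine ⟨fun a ha b => Subgroup.mem_subgroupOf.mpr ?_⟩
  obtain ⟨q, hq⟩ := Subgroup.mem_subgroupOf.mp ha
  refine ⟨(b : MulAut P) q, MulEquiv.ext fun x => ?_⟩
  rw [Subgroup.coe_mul, Subgroup.coe_mul, Subgroup.coe_inv, ← hq, MulAut.mul_apply, MulAut.mul_apply,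
    MulAut.conj_apply, MulAut.conj_apply, map_mul, map_mul, map_inv,
    show (b : MulAut P) ((b : MulAut P)⁻¹ x) = x from (b : MulAut P).apply_symm_apply x]

variable {T₁ T₂ U S : Subgroup Ω} {E₁ : FusionSystem T₁} {E₂ : FusionSystem T₂}
  {F : FusionSystem S} {D : FusionSystem U} {p : ℕ} {D₀ : FusionSystem (T₁.prod T₂)}
  {θ : ↥(T₁.prod T₂) →* Ω}

/-- Two normal subsystems, each centralized by the other, with their central product. -/
structure PData (F : FusionSystem S) (E₁ : FusionSystem T₁) (E₂ : FusionSystem T₂) (D : FusionSystem U)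
    (p : ℕ) (D₀ : FusionSystem (T₁.prod T₂)) (θ : ↥(T₁.prod T₂) →* Ω) : Prop where
  n₁ : NData F E₁ p
  n₂ : NData F E₂ p
  cp : CPair E₁ E₂ D D₀ θ
  ext₁ : ∀ P f, IsMap E₁ P f → ExtendsFix F T₂ P f
  ext₂ : ∀ P f, IsMap E₂ P f → ExtendsFix F T₁ P f

/-- The map is, on the part in `U`, a map of `D` followed by an automorphism of `U`. -/
def Good (F : FusionSystem S) (D : FusionSystem U) (P : Subgroup Ω) (f : Ω → Ω) : Prop :=
  ∃ k d, IsIso F U U k ∧ IsMap D (P ⊓ U) d ∧ ∀ x ∈ P ⊓ U, f x = k (d x)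

theorem Good.mono {P P' : Subgroup Ω} {f : Ω → Ω} (h : Good F D P f) (hle : P' ≤ P) : Good F D P' f := by
  obtain ⟨k, d, hk, hd, he⟩ := h
  exact ⟨k, d, hk, hd.mono (inf_le_inf_right _ hle), fun x hx => he x (inf_le_inf_right _ hle hx)⟩

theorem Good.congr {P : Subgroup Ω} {f g : Ω → Ω} (h : Good F D P f) (he : Set.EqOn f g P) :
    Good F D P g := by
  obtain ⟨k, d, hk, hd, hkd⟩ := h
  exact ⟨k, d, hk, hd, fun x hx => (he hx.1).symm.trans (hkd x hx)⟩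

theorem PData.u_eq (h : PData F E₁ E₂ D p D₀ θ) : U = T₁ ⊔ T₂ := by
  refine le_antisymm (fun x hx => ?_) (sup_le h.cp.left h.cp.right)
  obtain ⟨a, ha, b, hb, rfl⟩ := h.cp.mem_u.mp hx
  exact Subgroup.mul_mem _ (Subgroup.mem_sup_left ha) (Subgroup.mem_sup_right hb)

theorem PData.uS (h : PData F E₁ E₂ D p D₀ θ) : U ≤ S := h.u_eq.le.trans (sup_le h.n₁.tS h.n₂.tS)

theorem PData.map_le₁ (h : PData F E₁ E₂ D p D₀ θ) {M : Subgroup Ω} {k : Ω → Ω} (hk : IsMap F M k) {x : Ω}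
    (hx : x ∈ M) (hxT : x ∈ T₁) : k x ∈ T₁ := Fusion92.closed_apply h.n₁.closed hk hx hxT

theorem PData.map_le₂ (h : PData F E₁ E₂ D p D₀ θ) {M : Subgroup Ω} {k : Ω → Ω} (hk : IsMap F M k) {x : Ω}
    (hx : x ∈ M) (hxT : x ∈ T₂) : k x ∈ T₂ := Fusion92.closed_apply h.n₂.closed hk hx hxT

variable [Finite S]

theorem PData.dconj (h : PData F E₁ E₂ D p D₀ θ) {k : Ω → Ω} (hk : IsIso F U U k) {P : Subgroup Ω}
    {d : Ω → Ω} (hd : IsMap D P d) {P' : Subgroup Ω} (hP' : (P' : Set Ω) = k '' P) :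
    ∃ g, IsMap D P' g ∧ ∀ x ∈ P, g (k x) = k (d x) := by
  haveI := h.n₁.finiteT
  haveI := h.n₂.finiteT
  obtain ⟨ki, hki, hkl, hkr⟩ := hk.exists_inv
  have hk₁ : IsIso F T₁ T₁ k := isIso_of_mapsTo (hk.1.mono h.cp.left) h.n₁.tS
    (fun x hx => h.map_le₁ hk.1 (h.cp.left hx) hx) le_rfl
  have hk₂ : IsIso F T₂ T₂ k := isIso_of_mapsTo (hk.1.mono h.cp.right) h.n₂.tS
    (fun x hx => h.map_le₂ hk.1 (h.cp.right hx) hx) le_rfl
  obtain ⟨f₁, f₂, hf₁, hf₂, he⟩ := h.cp.lift hd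
  obtain ⟨Q₁, hQ₁⟩ := (hk₁.1.mono (proj₁_le θ P)).exists_image
  obtain ⟨Q₂, hQ₂⟩ := (hk₂.1.mono (proj₂_le θ P)).exists_image
  obtain ⟨g₁, hg₁, hg₁e⟩ := invariant_inv h.n₁.invariant hf₁ hk₁ hQ₁.2.symm
  obtain ⟨g₂, hg₂, hg₂e⟩ := invariant_inv h.n₂.invariant hf₂ hk₂ hQ₂.2.symm
  have hP'U : P' ≤ U := fun y hy => by
    obtain ⟨x, hx, rfl⟩ := (Set.ext_iff.mp hP' y).mp hy
    exact hk.mem (hd.dom_le hx)
  refine ⟨fun y => k (d (ki y)), h.cp.dmap hP'U hg₁ hg₂ fun a ha b hb hab => ?_,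
    fun x hx => by simp only [hkl x (hd.dom_le hx)]⟩
  obtain ⟨x, hx, hxe⟩ := (Set.ext_iff.mp hP' (a * b)).mp hab
  have hia := h.map_le₁ hki.1 (h.cp.left ha) ha
  have hib := h.map_le₂ hki.1 (h.cp.right hb) hb
  have hxe' : x = ki a * ki b := by
    rw [← hki.1.map_mul (h.cp.left ha) (h.cp.right hb), ← hxe, hkl x (hd.dom_le hx)]
  obtain ⟨hpa, hpb⟩ := h.cp.mem_proj hia hib (hxe' ▸ hx : ki a * ki b ∈ P)
  refine ⟨hkr a (h.cp.left ha) ▸ hQ₁.mem hpa, hkr b (h.cp.right hb) ▸ hQ₂.mem hpb, ?_⟩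
  show k (d (ki (a * b))) = _
  rw [hki.1.map_mul (h.cp.left ha) (h.cp.right hb), he _ hia _ hib (hxe' ▸ hx),
    hk.1.map_mul (h.cp.left (hf₁.apply_mem hpa)) (h.cp.right (hf₂.apply_mem hpb)), ← hg₁e _ hpa,
    ← hg₂e _ hpb, hkr a (h.cp.left ha), hkr b (h.cp.right hb)]

theorem Good.comp (h : PData F E₁ E₂ D p D₀ θ) {P P' : Subgroup Ω} {f f' : Ω → Ω} (hf : Good F D P f)
    (hf' : Good F D P' f') (hm : ∀ x ∈ P, f x ∈ P') : Good F D P (f' ∘ f) := by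
  obtain ⟨k, d, hk, hd, he⟩ := hf
  obtain ⟨k', d', hk', hd', he'⟩ := hf'
  obtain ⟨ki, hki, hkl, hkr⟩ := hk.exists_inv
  obtain ⟨R, hR⟩ := (hki.1.mono (inf_le_right : P' ⊓ U ≤ U)).exists_image
  obtain ⟨g, hg, hge⟩ := h.dconj hki hd' hR.2.symm
  have hfU : ∀ x ∈ P ⊓ U, f x ∈ P' ⊓ U := fun x hx =>
    ⟨hm x hx.1, (he x hx).symm ▸ hk.mem (hd.apply_mem hx)⟩
  have hdR : ∀ x ∈ P ⊓ U, d x ∈ R := fun x hx => by
    rw [← hkl _ (hd.apply_mem hx), ← he x hx]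
    exact hR.mem (hfU x hx)
  refine ⟨k' ∘ k, g ∘ d, hk.comp hk', hd.comp hg hdR, fun x hx => ?_⟩
  have e : d x = ki (f x) := by rw [he x hx, hkl _ (hd.apply_mem hx)]
  rw [Function.comp_apply, Function.comp_apply, Function.comp_apply, e, hge _ (hfU x hx),
    hkr _ (hd'.apply_mem (hfU x hx)), ← he' _ (hfU x hx)]

theorem PData.good_of_le (h : PData F E₁ E₂ D p D₀ θ) {P : Subgroup Ω} {f : Ω → Ω} (hf : IsMap F P f)
    (h₁ : T₁ ≤ P) (h₂ : T₂ ≤ P) : Good F D P f := by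
  have hUP : U ≤ P := h.u_eq.le.trans (sup_le h₁ h₂)
  have hk : IsIso F U U f := isIso_of_mapsTo (hf.mono hUP) h.uS (fun x hx => by
    obtain ⟨a, ha, b, hb, rfl⟩ := h.cp.mem_u.mp hx
    rw [hf.map_mul (h₁ ha) (h₂ hb)]
    exact U.mul_mem (h.cp.left (h.map_le₁ hf (h₁ ha) ha)) (h.cp.right (h.map_le₂ hf (h₂ hb) hb))) le_rfl
  exact ⟨f, id, hk, isMap_id inf_le_right, fun _ _ => rfl⟩

theorem PData.sub (h : PData F E₁ E₂ D p D₀ θ) : D.IsSubsystemOf F := fun P =>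
  hom_subset_of_isMap fun d hd => by
    obtain ⟨f₁, f₂, hf₁, hf₂, he⟩ := h.cp.lift hd
    obtain ⟨m₁, hm₁, hm₁e, hm₁f⟩ := h.ext₁ _ _ hf₁
    obtain ⟨m₂, hm₂, hm₂e, hm₂f⟩ := h.ext₂ _ _ hf₂
    have hle : P ≤ proj₂ θ P ⊔ T₁ := fun x hx => by
      obtain ⟨a, ha, b, hb, rfl⟩ := h.cp.mem_u.mp (hd.dom_le hx)
      exact Subgroup.mul_mem _ (Subgroup.mem_sup_right ha)
        (Subgroup.mem_sup_left (h.cp.mem_proj ha hb hx).2)
    have hval : ∀ a ∈ T₁, ∀ b ∈ T₂, a * b ∈ P → m₂ (a * b) = a * f₂ b := fun a ha b hb hab => by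
      have hbp := (h.cp.mem_proj ha hb hab).2
      rw [hm₂.map_mul (Subgroup.mem_sup_right ha) (Subgroup.mem_sup_left hbp), hm₂f a ha, hm₂e hbp]
    refine ((hm₂.mono hle).comp hm₁ fun x hx => ?_).congr fun x hx => ?_
    all_goals
      obtain ⟨a, ha, b, hb, rfl⟩ := h.cp.mem_u.mp (hd.dom_le hx)
      obtain ⟨hap, hbp⟩ := h.cp.mem_proj ha hb hx
    · rw [hval a ha b hb hx]
      exact Subgroup.mul_mem _ (Subgroup.mem_sup_left hap) (Subgroup.mem_sup_right (hf₂.apply_mem hbp))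
    · rw [Function.comp_apply, hval a ha b hb hx,
        hm₁.map_mul (Subgroup.mem_sup_left hap) (Subgroup.mem_sup_right (hf₂.apply_mem hbp)),
        hm₁e hap, hm₁f _ (hf₂.apply_mem hbp), he a ha b hb hx]

variable [Fact p.Prime]

/-- An automorphism extending to a larger group is good. -/
theorem good_of_extendable (hS : IsPGroup p S) (hF : F.IsSaturated p) {Q M : Subgroup Ω}
    (hQ : F.IsFullyNormalized Q) (hbig : ∀ R f, IsMap F R f → Nat.card Q < Nat.card R → Good F D R f)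
    {β : Ω → Ω} (hβ : IsIso F Q Q β) (hM : IsExtendable S Q β M) {g : Ω} (hg : g ∈ M) (hgQ : g ∉ Q) :
    Good F D Q β := by
  obtain ⟨f', hf', he⟩ := receptive_extend (receptive_of_fullyNormalized hS hF hQ) hβ hM
  have hle : Q ⊔ M ≤ S := sup_le hQ.1 hM.1
  haveI := finite_of_le hle
  have hlt : Nat.card Q < Nat.card ↥(Q ⊔ M) := by
    by_contra hge
    exact hgQ ((Subgroup.eq_of_le_of_card_ge (le_sup_left : Q ≤ Q ⊔ M) (not_lt.mp hge)).ge
      (Subgroup.mem_sup_right hg))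
  exact ((hbig _ f' hf' hlt).mono le_sup_left).congr he

theorem autFun_equiv {Q : Subgroup Ω} {β : MulAut Q} (hβ : IsIso F Q Q (autFun β)) : hβ.equiv = β :=
  MulEquiv.ext fun x => Subtype.ext (by rw [hβ.equiv_apply, autFun_coe])

/-- If a normal `p`-subgroup of the automorphisms contains the conjugation by an element outside,
all automorphisms are good. -/
theorem good_of_pNormal (hS : IsPGroup p S) (hF : F.IsSaturated p) {Q : Subgroup Ω}
    (hQ : F.IsFullyNormalized Q) (hbig : ∀ R f, IsMap F R f → Nat.card Q < Nat.card R → Good F D R f)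
    (N : Subgroup (F.autGroup Q)) (hn : N.Normal) (hp : IsPGroup p N) {g : Ω}
    (hg : g ∈ normalizerIn S Q) (hgQ : g ∉ Q)
    (hgN : ∀ hm : conjAutHom S Q ⟨g, hg⟩ ∈ F.autGroup Q, (⟨_, hm⟩ : F.autGroup Q) ∈ N)
    {β : MulAut Q} (hβ : β ∈ F.autGroup Q) : Good F D Q (autFun β) := by
  set N' := N.map (F.autGroup Q).subtype with hN'
  have hn' : (N'.subgroupOf (F.autGroup Q)).Normal := by
    rwa [hN', Subgroup.subgroupOf, Subgroup.comap_map_eq_self_of_injective (Subgroup.subtype_injective _)]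
  have hle : N' ≤ autInducedBy S Q :=
    Inter.pNormal_induced hS hF hQ N' (Subgroup.map_subtype_le N) (hp.map _) hn'
  set M : Subgroup Ω := (N'.comap (conjAutHom S Q)).map (normalizerIn S Q).subtype with hM
  have hβi := (mem_autGroup hQ.1).mp hβ
  have hgM : g ∈ M := ⟨⟨g, hg⟩, ⟨⟨_, autInducedBy_le_autGroup hQ.1
    (by rw [← range_conjAutHom]; exact ⟨_, rfl⟩)⟩, hgN _, rfl⟩, rfl⟩
  refine good_of_extendable hS hF hQ hbig hβi (M := M) ⟨fun y hy => ?_, fun y hy => ?_⟩ hgM hgQ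
  · obtain ⟨y, -, rfl⟩ := hy
    exact y.2.1
  · obtain ⟨y, hy, rfl⟩ := hy
    refine ⟨y.2.2, ?_⟩
    simp only [Subgroup.coe_subtype]
    rw [← congr_autInducedBy_mem hβi y.2]
    obtain ⟨a, ha, hae⟩ := hy
    refine hle ⟨⟨β, hβ⟩ * a * ⟨β, hβ⟩⁻¹, hn.conj_mem a ha _, ?_⟩
    rw [autFun_equiv hβi]
    show β * (a : MulAut Q) * β⁻¹ = _
    rw [show ((a : MulAut Q)) = conjAutHom S Q ⟨y, y.2⟩ from hae]
    rfl

set_option maxHeartbeats 1000000 in
/-- The Frattini argument on one side. -/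
theorem good_side {T W : Subgroup Ω} {E : FusionSystem T} (n : NData F E p) (hW : F.StronglyClosed W)
    (hcomm : ∀ t ∈ T, ∀ w ∈ W, t * w = w * t) (h : PData F E₁ E₂ D p D₀ θ) {Q : Subgroup Ω}
    (hQ : F.IsFullyNormalized Q) (hTQ : ¬ T ≤ Q)
    (hbig : ∀ R f, IsMap F R f → Nat.card Q < Nat.card R → Good F D R f)
    (hbase : ∀ β, IsIso F Q Q β → (∀ x ∈ Q ⊓ W, β x = x) → IsMap E (Q ⊓ T) β → Good F D Q β)
    {α : MulAut Q} (hα : α ∈ F.autGroup Q) : Good F D Q (autFun α) := by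
  haveI := finite_of_le hQ.1
  haveI := finite_mulAut Q
  set G := F.autGroup Q
  have hiso : ∀ a : G, IsIso F Q Q (autFun (a : MulAut Q)) := fun a => (mem_autGroup hQ.1).mp a.2
  have hWm : ∀ (a : G) x, x ∈ Q ⊓ W → autFun (a : MulAut Q) x ∈ Q ⊓ W := fun a x hx =>
    ⟨(hiso a).mem hx.1, Fusion92.closed_apply hW (hiso a).1 hx.1 hx.2⟩
  have hTm : ∀ (a : G) x, x ∈ Q ⊓ T → autFun (a : MulAut Q) x ∈ Q ⊓ T := fun a x hx =>
    ⟨(hiso a).mem hx.1, Fusion92.closed_apply n.closed (hiso a).1 hx.1 hx.2⟩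
  have hTi : ∀ a : G, IsIso F (Q ⊓ T) (Q ⊓ T) (autFun (a : MulAut Q)) := fun a =>
    isIso_of_mapsTo ((hiso a).1.mono inf_le_left) (inf_le_left.trans hQ.1) (hTm a) le_rfl
  have hcancel : ∀ (a : G) x, x ∈ Q → autFun (a : MulAut Q) (autFun ((a⁻¹ : G) : MulAut Q) x) = x :=
    fun a x hx => by
      rw [← Function.comp_apply (f := autFun (a : MulAut Q)), ← autFun_mul _ _ hx, ← Subgroup.coe_mul,
        mul_inv_cancel, Subgroup.coe_one, autFun_one hx]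
      rfl
  have hcancel' : ∀ (a : G) x, x ∈ Q → autFun ((a⁻¹ : G) : MulAut Q) (autFun (a : MulAut Q) x) = x :=
    fun a x hx => by
      have := hcancel a⁻¹ x hx
      rwa [inv_inv] at this
  let B : Subgroup G :=
    { carrier := {a | (∀ x ∈ Q ⊓ W, autFun (a : MulAut Q) x = x) ∧
        IsMap E (Q ⊓ T) (autFun (a : MulAut Q))}
      one_mem' := ⟨fun x hx => autFun_one hx.1,
        (isMap_id inf_le_right).congr fun x hx => (autFun_one hx.1).symm⟩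
      mul_mem' := fun {a b} ha hb => ⟨fun x hx => by
          rw [Subgroup.coe_mul, autFun_mul _ _ hx.1, Function.comp_apply, hb.1 x hx, ha.1 x hx],
        (hb.2.comp ha.2 (hTm b)).congr fun x hx => by
          rw [Subgroup.coe_mul, autFun_mul _ _ hx.1]⟩
      inv_mem' := fun {a} ha => by
        obtain ⟨gi, hgi, hgl, -⟩ := (show IsIso E (Q ⊓ T) (Q ⊓ T) (autFun (a : MulAut Q)) from
          ⟨ha.2, (hTi a).2⟩).exists_inv
        refine ⟨fun x hx => ?_, hgi.1.congr fun x hx => ?_⟩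
        · conv_lhs => rw [← ha.1 x hx]
          exact hcancel' a x hx.1
        · obtain ⟨y, hy, rfl⟩ := (hTi a).exists_preimage hx
          rw [hgl y hy, hcancel' a y hy.1] }
  haveI hB : B.Normal := by
    refine ⟨fun a ha b => ⟨fun x hx => ?_, ?_⟩⟩
    · rw [Subgroup.coe_mul, Subgroup.coe_mul, autFun_mul _ _ hx.1, Function.comp_apply,
        autFun_mul _ _ (hWm b⁻¹ x hx).1, Function.comp_apply, ha.1 _ (hWm b⁻¹ x hx), hcancel b x hx.1]
    · obtain ⟨χ, hχ, hχe⟩ := n.strongInv _ _ _ _ _ le_rfl inf_le_right ha.2 (fun x hx => hTm a x hx)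
        (hTi b).1 (hTi b)
      refine hχ.congr fun x hx => ?_
      obtain ⟨y, hy, rfl⟩ := (hTi b).exists_preimage hx
      rw [hχe y hy, Subgroup.coe_mul, Subgroup.coe_mul, autFun_mul _ _ hx.1, Function.comp_apply,
        hcancel' b y hy.1, autFun_mul _ _ hy.1, Function.comp_apply]
  obtain ⟨Y, hY⟩ := (fullyAutomized_of_fullyNormalized n.pgroup n.sat hQ).2
  obtain ⟨YB, hYB⟩ : ∃ YB : Sylow p B, (YB : Subgroup B) = (Y : Subgroup G).subgroupOf B :=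
    Transfer.exists_sylow_subgroupOf_normal Y B
  have htop := Sylow.normalizer_sup_eq_top (N := B) YB
  obtain ⟨a, ha, b, hb, hab⟩ :=
    Subgroup.mem_sup_of_normal_right.mp (htop.ge (Subgroup.mem_top ⟨α, hα⟩))
  have hbG : Good F D Q (autFun (b : MulAut Q)) := hbase _ (hiso b) hb.1 hb.2
  obtain ⟨g, hgT, hgN, hgQ⟩ : ∃ g ∈ T, g ∈ Subgroup.normalizer (Q : Set Ω) ∧ g ∉ Q := by
    by_contra hne
    push Not at hne
    exact hTQ (le_of_normalizer_le n.pgroup hQ.1 n.tS (hQ.1.trans n.s_le) hne)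
  have haG : Good F D Q (autFun (a : MulAut Q)) := by
    refine good_of_extendable n.pgroup n.sat hQ hbig (hiso a) (M := normalizerIn T Q)
      ⟨inf_le_left.trans n.tS, fun y hy => ⟨hy.2, ?_⟩⟩ (g := g) ⟨hgT, hgN⟩ hgQ
    have hyS : y ∈ normalizerIn S Q := ⟨n.tS hy.1, hy.2⟩
    rw [← congr_autInducedBy_mem (hiso a) hyS, autFun_equiv (hiso a)]
    have hS' : conjAutHom S Q ⟨y, hyS⟩ ∈ autInducedBy S Q := by
      rw [← range_conjAutHom]; exact ⟨_, rfl⟩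
    let c : G := ⟨_, autInducedBy_le_autGroup hQ.1 hS'⟩
    have hcB : c ∈ B := ⟨fun x hx => by
        rw [autFun_of_mem _ hx.1, conjAutHom_coe, hcomm y hy.1 x hx.2, mul_inv_cancel_right],
      (isMap_conj inf_le_right hy.1).congr fun x hx => by rw [autFun_of_mem _ hx.1]; rfl⟩
    have hc : c ∈ (YB : Subgroup B).map B.subtype := by
      rw [hYB]
      exact ⟨⟨c, hcB⟩, by
        show c ∈ (Y : Subgroup G)
        rw [hY]; exact Subgroup.mem_subgroupOf.mpr hS', rfl⟩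
    have h1 := (Subgroup.mem_normalizer_iff.mp ha c).mp hc
    rw [hYB, Subgroup.subgroupOf_map_subtype] at h1
    have h2 := h1.1
    rw [hY] at h2
    exact h2
  refine (Good.comp h hbG haG fun x hx => (hiso b).mem hx).congr fun x hx => ?_
  rw [← autFun_mul _ _ hx, ← Subgroup.coe_mul, hab]

set_option maxHeartbeats 1000000 in
/-- Automorphisms of fully normalized subgroups are good, given larger ones. -/
theorem PData.good_aut (h : PData F E₁ E₂ D p D₀ θ) {Q : Subgroup Ω} (hQ : F.IsFullyNormalized Q)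
    (hbig : ∀ R f, IsMap F R f → Nat.card Q < Nat.card R → Good F D R f) {α : MulAut Q}
    (hα : α ∈ F.autGroup Q) : Good F D Q (autFun α) := by
  have hS := h.n₁.pgroup
  haveI := finite_of_le hQ.1
  haveI := h.n₁.finiteT
  haveI := h.n₂.finiteT
  haveI := finite_mulAut Q
  set G := F.autGroup Q
  have hm : ∀ {X : Subgroup Ω}, F.StronglyClosed X → ∀ b ∈ G, ∀ x : Q, (x : Ω) ∈ Q ⊓ X →
      ((b x : Q) : Ω) ∈ Q ⊓ X := fun {X} hX b hb x hx => ⟨Subtype.mem _, by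
    rw [← autFun_coe b x]
    exact Fusion92.closed_apply hX ((mem_autGroup hQ.1).mp hb).1 x.2 hx.2⟩
  have hZc : F.StronglyClosed (T₁ ⊓ T₂) := stronglyClosed_iff.mpr ⟨inf_le_left.trans h.n₁.tS,
    fun R f hf x hx hxZ => ⟨h.map_le₁ hf hx hxZ.1, h.map_le₂ hf hx hxZ.2⟩⟩
  have hcomm : ∀ t ∈ T₂, ∀ w ∈ T₁, t * w = w * t := fun t ht w hw => (h.cp.comm w hw t ht).symm
  by_cases hZ : T₁ ⊓ T₂ ≤ Q
  swap
  · obtain ⟨z, hz, hzN, hzQ⟩ : ∃ z ∈ T₁ ⊓ T₂, z ∈ Subgroup.normalizer (Q : Set Ω) ∧ z ∉ Q := by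
      by_contra hne
      push Not at hne
      exact hZ (le_of_normalizer_le hS hQ.1 hZc.1 (hQ.1.trans (stronglyClosed_le_normalizer hZc)) hne)
    have hp : IsPGroup p (cross Q (Q ⊓ (T₁ ⊓ T₂)) (Q ⊓ (T₁ ⊓ T₂))) :=
      (fixMod_isPGroup (hS.to_le hQ.1) : IsPGroup p (fixMod Q (Q ⊓ (T₁ ⊓ T₂)))).to_le
        fun a ha => ⟨ha.1, ha.2⟩
    refine good_of_pNormal hS h.n₁.sat hQ hbig ((cross Q (Q ⊓ (T₁ ⊓ T₂)) (Q ⊓ (T₁ ⊓ T₂))).subgroupOf G)
      (cross_normal G (hm hZc) (hm hZc)) (hp.comap_of_injective _ (Subgroup.subtype_injective _))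
      ⟨hZc.1 hz, hzN⟩ hzQ (fun _ => Subgroup.mem_subgroupOf.mpr ?_) hα
    exact conjAutHom_mem_cross (stronglyClosed_le_normalizer hZc) hQ.1 _ hz fun x hx =>
      h.cp.comm z hz.1 x hx.2
  by_cases hX : proj₁ θ Q ≤ Q
  swap
  · have hXn : Q ≤ Subgroup.normalizer (proj₁ θ Q : Set Ω) := fun q hq => by
      haveI := finite_of_le (proj₁_le θ Q)
      refine Subgroup.mem_normalizer_fintype fun y hy => ?_
      obtain ⟨z, hz, rfl⟩ := hy
      obtain ⟨hz', hzQ⟩ := Fusion91.mem_preimage_push.mp hz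
      rw [h.cp.push_eq z hz'] at hzQ
      refine (h.cp.mem_proj (h.n₁.conj_t (hQ.1 hq) hz'.1) (h.n₂.conj_t (hQ.1 hq) hz'.2) ?_).1
      have := Q.mul_mem (Q.mul_mem hq hzQ) (Q.inv_mem hq)
      convert this using 1
      group
    obtain ⟨x, hx, hxN, hxQ⟩ : ∃ x ∈ proj₁ θ Q, x ∈ Subgroup.normalizer (Q : Set Ω) ∧ x ∉ Q := by
      by_contra hne
      push Not at hne
      exact hX (le_of_normalizer_le hS hQ.1 ((proj₁_le θ Q).trans h.n₁.tS) hXn hne)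
    obtain ⟨z, hz, rfl⟩ := hx
    obtain ⟨hz', hzQ⟩ := Fusion91.mem_preimage_push.mp hz
    rw [h.cp.push_eq z hz'] at hzQ
    have hbN : z.2 ∈ normalizerIn S Q := by
      refine ⟨h.n₂.tS hz'.2, ?_⟩
      rw [← inv_mul_cancel_left z.1 z.2]
      exact Subgroup.mul_mem _ (Subgroup.inv_mem _ hxN) (Subgroup.le_normalizer hzQ)
    set I := (MulAut.conj : ↥Q →* MulAut Q).range.subgroupOf G
    set A₁ := (cross Q (Q ⊓ T₁) (Q ⊓ T₂)).subgroupOf G
    set A₂ := (cross Q (Q ⊓ T₂) (Q ⊓ T₁)).subgroupOf G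
    haveI : I.Normal := inner_normal G
    haveI : A₁.Normal := cross_normal G (hm h.n₁.closed) (hm h.n₂.closed)
    haveI : A₂.Normal := cross_normal G (hm h.n₂.closed) (hm h.n₁.closed)
    have hp : IsPGroup p ↥(A₁ ⊓ (I ⊔ A₂)) := by
      rintro ⟨a, ha⟩
      obtain ⟨i, hi, c, hc, rfl⟩ := Subgroup.mem_sup_of_normal_right.mp ha.2
      obtain ⟨q, hq⟩ := Subgroup.mem_subgroupOf.mp hi
      obtain ⟨k, hk⟩ := (hS.to_le hQ.1) q
      have h1 : (i * c) ^ p ^ k ∈ A₂ := by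
        rw [← QuotientGroup.eq_one_iff, QuotientGroup.mk_pow, QuotientGroup.mk_mul,
          (QuotientGroup.eq_one_iff c).mpr hc, mul_one, ← QuotientGroup.mk_pow,
          show i ^ p ^ k = 1 from Subtype.ext (by
            rw [Subgroup.coe_pow, ← hq, ← map_pow, hk, map_one, Subgroup.coe_one])]
        rfl
      have h2 : (((i * c) ^ p ^ k : G) : MulAut Q) ∈ fixMod Q (Q ⊓ (T₁ ⊓ T₂)) := by
        have hA₁ : (((i * c) ^ p ^ k : G) : MulAut Q) ∈ cross Q (Q ⊓ T₁) (Q ⊓ T₂) :=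
          Subgroup.mem_subgroupOf.mp (Subgroup.pow_mem _ ha.1 _)
        exact ⟨fun y hy => hA₁.1 y ⟨hy.1, hy.2.2⟩,
          fun y => ⟨Subtype.mem _, (hA₁.2 y).2, ((Subgroup.mem_subgroupOf.mp h1).2 y).2⟩⟩
      obtain ⟨e, he⟩ := fixMod_isPGroup (hS.to_le hQ.1) ⟨_, h2⟩
      refine ⟨k + e, Subtype.ext (Subtype.ext ?_)⟩
      have := congrArg Subtype.val he
      simp only [Subgroup.coe_pow, Subgroup.coe_one] at this ⊢
      rw [pow_add, pow_mul]
      exact this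
    refine good_of_pNormal hS h.n₁.sat hQ hbig (A₁ ⊓ (I ⊔ A₂)) inferInstance hp
      ⟨h.n₁.tS hz'.1, hxN⟩ hxQ (fun hmem => ⟨Subgroup.mem_subgroupOf.mpr
        (conjAutHom_mem_cross h.n₁.s_le hQ.1 _ hz'.1 fun y hy => h.cp.comm _ hz'.1 y hy), ?_⟩) hα
    have hqG : conjAutHom S Q ⟨z.1 * z.2, hQ.1 hzQ, Subgroup.le_normalizer hzQ⟩ ∈ G :=
      autInducedBy_le_autGroup hQ.1 (by rw [← range_conjAutHom]; exact ⟨_, rfl⟩)
    have hbG : conjAutHom S Q ⟨z.2, hbN⟩ ∈ G :=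
      autInducedBy_le_autGroup hQ.1 (by rw [← range_conjAutHom]; exact ⟨_, rfl⟩)
    have e : (⟨_, hmem⟩ : G) = ⟨_, hqG⟩ * (⟨_, hbG⟩ : G)⁻¹ := Subtype.ext (by
      show _ = conjAutHom S Q _ * (conjAutHom S Q _)⁻¹
      rw [← map_inv, ← map_mul]
      exact congrArg (conjAutHom S Q) (Subtype.ext
        (show z.1 = z.1 * z.2 * z.2⁻¹ from (mul_inv_cancel_right _ _).symm)))
    rw [e]
    exact Subgroup.mul_mem_sup
      (Subgroup.mem_subgroupOf.mpr ⟨⟨_, hzQ⟩, MulEquiv.ext fun y => Subtype.ext rfl⟩)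
      (A₂.inv_mem (Subgroup.mem_subgroupOf.mpr
        (conjAutHom_mem_cross h.n₂.s_le hQ.1 _ hz'.2 fun y hy => hcomm _ hz'.2 y hy)))
  have hdec : Q ⊓ U ≤ (Q ⊓ T₁) ⊔ (Q ⊓ T₂) := fun y hy => by
    obtain ⟨a, ha, b, hb, rfl⟩ := h.cp.mem_u.mp hy.2
    have haQ : a ∈ Q := hX (h.cp.mem_proj ha hb hy.1).1
    have hbQ : b ∈ Q := by
      have := Q.mul_mem (Q.inv_mem haQ) hy.1
      rwa [inv_mul_cancel_left] at this
    exact Subgroup.mul_mem _ (Subgroup.mem_sup_left ⟨haQ, ha⟩) (Subgroup.mem_sup_right ⟨hbQ, hb⟩)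
  have hZ₁ : T₁ ⊓ T₂ ≤ Q ⊓ T₁ := le_inf hZ inf_le_left
  have hZ₂ : T₁ ⊓ T₂ ≤ Q ⊓ T₂ := le_inf hZ inf_le_right
  have hbaseOf : ∀ (β g₁ g₂ : Ω → Ω), IsMap E₁ (Q ⊓ T₁) g₁ → IsMap E₂ (Q ⊓ T₂) g₂ →
      IsIso F Q Q β → (∀ x ∈ Q ⊓ T₁, β x = g₁ x) → (∀ x ∈ Q ⊓ T₂, β x = g₂ x) →
      (∀ w ∈ T₁ ⊓ T₂, β w = w) → Good F D Q β := by
    intro β g₁ g₂ hg₁ hg₂ hβ e₁ e₂ hfix
    obtain ⟨m, hm, -, -, hme⟩ := h.cp.exists_combine hg₁ hg₂ hZ₁ hZ₂
      (fun w hw => (e₁ w (hZ₁ hw)).symm.trans (hfix w hw))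
      (fun w hw => (e₂ w (hZ₂ hw)).symm.trans (hfix w hw))
    refine ⟨id, m, isIso_id h.uS, hm.mono hdec, fun y hy => ?_⟩
    obtain ⟨a, ha, b, hb, rfl⟩ := h.cp.mem_u.mp hy.2
    have haQ : a ∈ Q := hX (h.cp.mem_proj ha hb hy.1).1
    have hbQ : b ∈ Q := by
      have := Q.mul_mem (Q.inv_mem haQ) hy.1
      rwa [inv_mul_cancel_left] at this
    show _ = m (a * b)
    rw [hme a ⟨haQ, ha⟩ b ⟨hbQ, hb⟩, hβ.1.map_mul haQ hbQ, e₁ a ⟨haQ, ha⟩, e₂ b ⟨hbQ, hb⟩]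
  by_cases h₁ : T₁ ≤ Q
  · by_cases h₂ : T₂ ≤ Q
    · exact h.good_of_le ((mem_autGroup hQ.1).mp hα).1 h₁ h₂
    · exact good_side h.n₂ h.n₁.closed hcomm h hQ h₂ hbig (fun β hβ hfix hE =>
        hbaseOf β id β (isMap_id inf_le_right) hE hβ hfix (fun _ _ => rfl) fun w hw => hfix w (hZ₁ hw)) hα
  · exact good_side h.n₁ h.n₂.closed h.cp.comm h hQ h₁ hbig (fun β hβ hfix hE =>
      hbaseOf β β id hE (isMap_id inf_le_right) hβ (fun _ _ => rfl) hfix fun w hw => hfix w (hZ₂ hw)) hα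

/-- Every map is good. -/
theorem PData.good (h : PData F E₁ E₂ D p D₀ θ) :
    ∀ (P : Subgroup Ω) (f : Ω → Ω), IsMap F P f → Good F D P f := by
  have hS := h.n₁.pgroup
  suffices H : ∀ (n : ℕ) (P : Subgroup Ω) (f : Ω → Ω),
      Nat.card S - Nat.card P = n → IsMap F P f → Good F D P f from fun P f => H _ P f rfl
  intro n
  induction n using Nat.strong_induction_on with
  | _ n ih =>
    intro P f hn hf
    subst hn
    by_cases hc : T₁ ≤ P ∧ T₂ ≤ P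
    · exact h.good_of_le hf hc.1 hc.2
    have hPS : P < S := lt_of_le_of_ne hf.dom_le fun e => hc (e ▸ ⟨h.n₁.tS, h.n₂.tS⟩)
    have hbig : ∀ R g, IsMap F R g → Nat.card P < Nat.card R → Good F D R g := fun R g hg hlt => by
      have := Subgroup.card_le_of_le hg.dom_le
      exact ih _ (by omega) R g rfl hg
    obtain ⟨P', hP'⟩ := hf.exists_image
    obtain ⟨Q, hPQ, hQn⟩ := exists_fullyNormalized (F := F) hPS.le
    have hlt : ∀ {A : Subgroup Ω}, A ≤ S → Nat.card A = Nat.card P →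
        Nat.card P < Nat.card (normalizerIn S A) := fun {A} hA hcard => by
      have hAS : A < S := lt_of_le_of_ne hA fun e =>
        absurd (Subgroup.eq_of_le_of_card_ge hPS.le (by rw [← hcard, e])) hPS.ne
      haveI := finite_of_le (normalizerIn_le S A)
      rw [← hcard]
      by_contra hge
      exact (lt_normalizerIn hS hAS).ne (Subgroup.eq_of_le_of_card_ge (lt_normalizerIn hS hAS).le
        (not_lt.mp hge))
    have hr := receptive_of_fullyNormalized hS h.n₁.sat hQn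
    have ha := fullyAutomized_of_fullyNormalized hS h.n₁.sat hQn
    have hQc : Nat.card Q = Nat.card P := (isConj_card hPQ).symm
    obtain ⟨u, hu, huP, -⟩ := exists_normalizer_map hS ha hr hPQ
    obtain ⟨v, hv, hvP, -⟩ := exists_normalizer_map hS ha hr
      (isConj_trans (isConj_symm hP'.isConj) hPQ)
    have huG : Good F D P u := (hbig _ u hu (hlt hPS.le rfl)).mono (le_normalizerIn hPS.le)
    obtain ⟨J, hJ⟩ := hv.exists_image
    obtain ⟨vi, hvi, hvil, -⟩ := hJ.exists_inv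
    have hQJ : Q ≤ J := fun y hy => by
      obtain ⟨x, hx, rfl⟩ := hvP.exists_preimage hy
      exact hJ.mem (le_normalizerIn hP'.cod_le hx)
    have hviG : Good F D Q vi := (hbig J vi hvi.1 (by
      rw [← hJ.card_eq]; exact hlt hP'.cod_le hP'.card_eq.symm)).mono hQJ
    obtain ⟨ui, hui, huil, -⟩ := huP.exists_inv
    obtain ⟨γ, hγ, hγe⟩ := ((hui.comp hP').comp hvP).exists_aut
    have hγG := h.good_aut hQn (fun R g hg hl => hbig R g hg (hQc ▸ hl)) hγ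
    have hcomp := Good.comp h (Good.comp h huG hγG fun x hx => huP.mem hx) hviG fun x hx => by
      rw [Function.comp_apply, hγe (huP.mem hx)]
      exact hvP.mem (hP'.mem (hui.mem (huP.mem hx)))
    refine hcomp.congr fun x hx => ?_
    rw [Function.comp_apply, Function.comp_apply, hγe (huP.mem hx)]
    simp only [Function.comp_apply]
    rw [huil x hx, hvil _ (le_normalizerIn hP'.cod_le (hP'.mem hx))]

theorem PData.invariant (h : PData F E₁ E₂ D p D₀ θ) : D.IsInvariantIn F := by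
  refine Fus93.isInvariantIn_of h.sub (stronglyClosed_iff.mpr ⟨h.uS, fun P f hf x hx hxU => ?_⟩)
    (fun P f hf k hk P' hP' => h.dconj hk hf hP') fun P f hf hP => ?_
  · obtain ⟨k, d, hk, hd, he⟩ := h.good P f hf
    exact he x ⟨hx, hxU⟩ ▸ hk.mem (hd.apply_mem ⟨hx, hxU⟩)
  · obtain ⟨k, d, hk, hd, he⟩ := h.good P f hf
    exact ⟨k, d, hk, hd.mono (le_inf le_rfl hP), fun x hx => he x ⟨hx, hP hx⟩⟩

theorem PData.dSat (h : PData F E₁ E₂ D p D₀ θ) : D.IsSaturated p := by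
  haveI := h.n₁.finiteT
  haveI := h.n₂.finiteT
  haveI : Finite ↥(T₁.prod T₂) := Finite.of_equiv _ (T₁.prodEquiv T₂).toEquiv.symm
  exact Fusion91.isSaturated_image (Fitting.isPGroup_prod h.n₁.tp h.n₂.tp)
    (Fusion91.isSaturated_prod h.n₁.tp h.n₂.tp h.n₁.eSat h.n₂.eSat h.cp.prod) h.cp.surj

/-- The product of two normal subsystems centralizing each other is weakly normal. -/
theorem PData.weaklyNormal (h : PData F E₁ E₂ D p D₀ θ) : D.IsWeaklyNormalIn F p :=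
  ⟨h.dSat, h.n₁.sat, h.invariant⟩

end Cfsg.Agent.Fusion.Comp
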