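import Cfsg.Agent.Lib.Fusion.Inter.Main

/-!
# Automorphisms stabilizing a series of length three
-/

set_option autoImplicit false
set_option linter.style.haveILetI false

namespace Cfsg.Agent.Fusion.Comp

open Cfsg Cfsg.Agent.Fusion

variable {Ω : Type*} [Group Ω] {p : ℕ}

/-- An element moved by a fixed element, with a coprime return time, is fixed. -/
theorem eq_one_of_pow [Fact p.Prime] {d : Ω} {n k : ℕ} (hn : n.Coprime p) (h : d ^ n = 1)
    (hk : d ^ p ^ k = 1) : d = 1 := by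
  have h1 : orderOf d ∣ n := orderOf_dvd_of_pow_eq_one h
  have h2 : orderOf d ∣ p ^ k := orderOf_dvd_of_pow_eq_one hk
  exact orderOf_eq_one_iff.mp
    (Nat.eq_one_of_dvd_one ((hn.pow_right k).gcd_eq_one ▸ Nat.dvd_gcd h1 h2))

/-- Iterates of a map moving `x` by a fixed element. -/
theorem iterate_fixed {S : Subgroup Ω} {F : FusionSystem S} {M : Subgroup Ω} {f : Ω → Ω}
    (hf : IsMap F M f) (hM : ∀ y ∈ M, f y ∈ M) {x : Ω} (hx : x ∈ M) (hd : f (x⁻¹ * f x) = x⁻¹ * f x) :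
    ∀ n : ℕ, f^[n] x = x * (x⁻¹ * f x) ^ n := by
  intro n
  induction n with
  | zero => simp
  | succ n ih =>
    have hdm : x⁻¹ * f x ∈ M := M.mul_mem (M.inv_mem hx) (hM x hx)
    rw [Function.iterate_succ_apply', ih, hf.map_mul hx (M.pow_mem hdm n), hf.map_pow hdm, hd,
      pow_succ', ← mul_assoc x, mul_inv_cancel_left]

/-- An automorphism of order prime to `p` moving `x` by a fixed element fixes `x`. -/
theorem fix_of_cop [Fact p.Prime] {S : Subgroup Ω} {F : FusionSystem S} (hS : IsPGroup p S)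
    {M : Subgroup Ω} {f : Ω → Ω} (hf : IsMap F M f) (hM : ∀ y ∈ M, f y ∈ M) (hc : Inter.Cop p M f)
    {x : Ω} (hx : x ∈ M) (hd : f (x⁻¹ * f x) = x⁻¹ * f x) : f x = x := by
  obtain ⟨n, hn, hne⟩ := hc
  have h1 := iterate_fixed hf hM hx hd n
  rw [hne x hx, left_eq_mul] at h1
  obtain ⟨k, hk⟩ := hS ⟨x⁻¹ * f x, S.mul_mem (S.inv_mem (hf.dom_le hx)) (hf.apply_mem hx)⟩
  have := eq_one_of_pow hn h1 (congrArg Subtype.val hk)
  exact (inv_mul_eq_one.mp this).symm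

/-- The automorphisms of `P` fixing `W`, trivial on `R` modulo `W` and on `P` modulo `R`. -/
def stab (P R W : Subgroup Ω) (hWR : W ≤ R) : Subgroup (MulAut P) where
  carrier := {a | (∀ x : P, (x : Ω) ∈ W → a x = x) ∧
    (∀ x : P, (x : Ω) ∈ R → ((x⁻¹ * a x : P) : Ω) ∈ W) ∧ ∀ x : P, ((x⁻¹ * a x : P) : Ω) ∈ R}
  one_mem' := ⟨fun _ _ => rfl, fun x _ => by simp, fun x => by simp⟩
  mul_mem' {a b} ha hb := by
    have key : ∀ x : P, x⁻¹ * a (b x) = x⁻¹ * b x * ((b x)⁻¹ * a (b x)) := fun x => by group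
    refine ⟨fun x hx => by rw [MulAut.mul_apply, hb.1 x hx, ha.1 x hx], fun x hx => ?_, fun x => ?_⟩
    · have hbx : ((b x : P) : Ω) ∈ R := by
        have := R.mul_mem hx (hWR (hb.2.1 x hx))
        rwa [← Subgroup.coe_mul, mul_inv_cancel_left] at this
      rw [MulAut.mul_apply, key, Subgroup.coe_mul]
      exact W.mul_mem (hb.2.1 x hx) (ha.2.1 _ hbx)
    · rw [MulAut.mul_apply, key, Subgroup.coe_mul]
      exact R.mul_mem (hb.2.2 x) (ha.2.2 _)
  inv_mem' {a} ha := by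
    have hb : ∀ x : P, a (a⁻¹ x) = x := fun x => a.apply_symm_apply x
    have hR : ∀ x : P, (((a⁻¹ x)⁻¹ * x : P) : Ω) ∈ R := fun x => by
      have := ha.2.2 (a⁻¹ x)
      rwa [hb] at this
    have hR' : ∀ x : P, (x : Ω) ∈ R → ((a⁻¹ x : P) : Ω) ∈ R := fun x hx => by
      have := R.mul_mem hx (R.inv_mem (hR x))
      rwa [← Subgroup.coe_inv, ← Subgroup.coe_mul, mul_inv_rev, inv_inv, ← mul_assoc,
        mul_inv_cancel, one_mul] at this
    have hW : ∀ x : P, (x : Ω) ∈ R → ((x⁻¹ * a⁻¹ x : P) : Ω) ∈ W := fun x hx => by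
      have := ha.2.1 _ (hR' x hx)
      rw [hb] at this
      rw [show x⁻¹ * a⁻¹ x = ((a⁻¹ x)⁻¹ * x)⁻¹ by group, Subgroup.coe_inv]
      exact W.inv_mem this
    refine ⟨fun x hx => a.injective ?_, hW, fun x => ?_⟩
    · rw [hb, ha.1 x hx]
    · rw [show x⁻¹ * a⁻¹ x = ((a⁻¹ x)⁻¹ * x)⁻¹ by group, Subgroup.coe_inv]
      exact R.inv_mem (hR x)

theorem stab_isPGroup [Fact p.Prime] {P R W : Subgroup Ω} [Finite P] (hWR : W ≤ R)
    (hP : IsPGroup p P) : IsPGroup p (stab P R W hWR) := by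
  haveI := finite_mulAut P
  rintro ⟨a, ha⟩
  obtain ⟨k, hk⟩ : ∃ k, (orderOf (a ^ p ^ k)).Coprime p := by
    obtain ⟨e, m, hm, he⟩ := Nat.exists_eq_pow_mul_and_not_dvd (orderOf_pos a).ne' p
      (Fact.out : p.Prime).ne_one
    refine ⟨e, ?_⟩
    rw [orderOf_pow_of_dvd (pow_ne_zero _ (Fact.out : p.Prime).ne_zero) (he ▸ dvd_mul_right _ _),
      he, Nat.mul_div_cancel_left _ (pow_pos (Fact.out : p.Prime).pos _)]
    exact ((Nat.Prime.coprime_iff_not_dvd Fact.out).mpr hm).symm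
  refine ⟨k, Subtype.ext ?_⟩
  show a ^ p ^ k = 1
  have hb : a ^ p ^ k ∈ stab P R W hWR := Subgroup.pow_mem _ ha _
  set b := a ^ p ^ k
  have step : ∀ x : P, b (x⁻¹ * b x) = x⁻¹ * b x → b x = x := fun x hd => by
    have hit : ∀ n : ℕ, (b ^ n) x = x * (x⁻¹ * b x) ^ n := by
      intro n
      induction n with
      | zero => simp
      | succ n ih =>
        rw [pow_succ', MulAut.mul_apply, ih, map_mul, map_pow, hd, pow_succ' (x⁻¹ * b x),
          ← mul_assoc x, mul_inv_cancel_left]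
    have h1 := hit (orderOf b)
    rw [pow_orderOf_eq_one, MulAut.one_apply, left_eq_mul] at h1
    obtain ⟨e, he⟩ := hP (x⁻¹ * b x)
    have h2 : ((x⁻¹ * b x : P) : Ω) = 1 := eq_one_of_pow hk
      (by rw [← Subgroup.coe_pow, h1, Subgroup.coe_one])
      (by rw [← Subgroup.coe_pow, he, Subgroup.coe_one])
    exact (inv_mul_eq_one.mp (Subtype.ext h2)).symm
  have hR : ∀ x : P, (x : Ω) ∈ R → b x = x := fun x hx => step x (hb.1 _ (hb.2.1 x hx))
  exact MulEquiv.ext fun x => step x (hR _ (hb.2.2 x))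

theorem stab_conj {P R W : Subgroup Ω} {hWR : W ≤ R} {a b : MulAut P} (ha : a ∈ stab P R W hWR)
    (hR : ∀ x : P, ((b x : P) : Ω) ∈ R ↔ (x : Ω) ∈ R) (hW : ∀ x : P, ((b x : P) : Ω) ∈ W ↔ (x : Ω) ∈ W) :
    b * a * b⁻¹ ∈ stab P R W hWR := by
  have hb : ∀ x : P, b (b⁻¹ x) = x := fun x => b.apply_symm_apply x
  have key : ∀ x : P, x⁻¹ * (b * a * b⁻¹) x = b ((b⁻¹ x)⁻¹ * a (b⁻¹ x)) := fun x => by
    rw [MulAut.mul_apply, MulAut.mul_apply, map_mul, map_inv, hb]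
  refine ⟨fun x hx => ?_, fun x hx => ?_, fun x => ?_⟩
  · rw [MulAut.mul_apply, MulAut.mul_apply, ha.1 _ ((hW _).mp (by rw [hb]; exact hx)), hb]
  · rw [key]
    exact (hW _).mpr (ha.2.1 _ ((hR _).mp (by rw [hb]; exact hx)))
  · rw [key]
    exact (hR _).mpr (ha.2.2 _)

theorem stab_normal {P R W : Subgroup Ω} (hWR : W ≤ R) (A : Subgroup (MulAut P))
    (hR : ∀ b ∈ A, ∀ x : P, (x : Ω) ∈ R → ((b x : P) : Ω) ∈ R)
    (hW : ∀ b ∈ A, ∀ x : P, (x : Ω) ∈ W → ((b x : P) : Ω) ∈ W) :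
    ((stab P R W hWR).subgroupOf A).Normal := by
  refine ⟨fun a ha b => Subgroup.mem_subgroupOf.mpr (stab_conj (Subgroup.mem_subgroupOf.mp ha)
    (fun x => ⟨fun hx => ?_, hR b b.2 x⟩) fun x => ⟨fun hx => ?_, hW b b.2 x⟩)⟩
  · have := hR _ (A.inv_mem b.2) _ hx
    rwa [show (b : MulAut P)⁻¹ ((b : MulAut P) x) = x from (b : MulAut P).symm_apply_apply x] at this
  · have := hW _ (A.inv_mem b.2) _ hx
    rwa [show (b : MulAut P)⁻¹ ((b : MulAut P) x) = x from (b : MulAut P).symm_apply_apply x] at this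

end Cfsg.Agent.Fusion.Comp
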